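import Mathlib
import Cfsg.Agent.ClassicalGeometry.AutPSL.Root
import Cfsg.Agent.LieClassical.SLGen
import Cfsg.Agent.H79.OrbitDual

/-!
# Transvections of `SL ι F`: transitivity and the commutative groups `U e`

`tr e φ h` is the transvection `1 + e φᵀ`; `perp e` the group of the `φ` with `φ e = 0`;
`U e` the action data (`OrbitDual.Act`) of `perp e` through `φ ↦ tr e φ`.
-/

set_option autoImplicit false
set_option linter.unusedSectionVars false

namespace Cfsg.Agent.H79.MinIdxSL

open Matrix Cfsg.Agent.ClassicalGeometry.AutPSL.Root Cfsg.Agent.H79.OrbitDual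

variable {ι F : Type*} [Fintype ι] [DecidableEq ι] [Field F]

theorem tr_smul (a φ : ι → F) (h : φ ⬝ᵥ a = 0) (x : ι → F) :
    tr a φ h • x = x + (φ ⬝ᵥ x) • a := by
  rw [Matrix.SpecialLinearGroup.smul_def, Matrix.smul_eq_mulVec, tr_mulVec]

theorem smul_eq_mulVec' (g : SpecialLinearGroup ι F) (x : ι → F) :
    g • x = (g : Matrix ι ι F) *ᵥ x := by
  rw [Matrix.SpecialLinearGroup.smul_def, Matrix.smul_eq_mulVec]

theorem sl_ext' {A B : SpecialLinearGroup ι F} (h : ∀ x : ι → F, A • x = B • x) : A = B :=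
  Cfsg.Agent.LieClassical.SLGen.smul_ext h

/-- The action on linear forms. -/
def co (g : SpecialLinearGroup ι F) (φ : ι → F) : ι → F :=
  φ ᵥ* ((g⁻¹ : SpecialLinearGroup ι F) : Matrix ι ι F)

theorem co_dot (g : SpecialLinearGroup ι F) (φ x : ι → F) :
    co g φ ⬝ᵥ x = φ ⬝ᵥ (g⁻¹ • x) := by
  rw [co, ← dotProduct_mulVec, smul_eq_mulVec']

theorem co_dot_smul (g : SpecialLinearGroup ι F) (φ x : ι → F) :
    co g φ ⬝ᵥ (g • x) = φ ⬝ᵥ x := by
  rw [co_dot, inv_smul_smul]

theorem dot_ext {φ ψ : ι → F} (h : ∀ x : ι → F, φ ⬝ᵥ x = ψ ⬝ᵥ x) : φ = ψ := by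
  ext i
  have := h (Pi.single i 1)
  rwa [dotProduct_single, dotProduct_single, mul_one, mul_one] at this

theorem co_mul (g h : SpecialLinearGroup ι F) (φ : ι → F) : co (g * h) φ = co g (co h φ) := by
  apply dot_ext
  intro x
  rw [co_dot, co_dot, co_dot, _root_.mul_inv_rev, mul_smul]

theorem co_one (φ : ι → F) : co 1 φ = φ := by
  apply dot_ext
  intro x
  rw [co_dot, inv_one, one_smul]

theorem co_inv_co (g : SpecialLinearGroup ι F) (φ : ι → F) : co g⁻¹ (co g φ) = φ := by
  rw [← co_mul, inv_mul_cancel, co_one]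

theorem co_co_inv (g : SpecialLinearGroup ι F) (φ : ι → F) : co g (co g⁻¹ φ) = φ := by
  rw [← co_mul, mul_inv_cancel, co_one]

theorem co_add (g : SpecialLinearGroup ι F) (φ ψ : ι → F) :
    co g (φ + ψ) = co g φ + co g ψ := by
  rw [co, add_vecMul]
  rfl

theorem co_perp {g : SpecialLinearGroup ι F} {φ e : ι → F} (h : φ ⬝ᵥ e = 0) :
    co g φ ⬝ᵥ (g • e) = 0 := by
  rw [co_dot_smul, h]

theorem conj_tr (g : SpecialLinearGroup ι F) (e φ : ι → F) (h : φ ⬝ᵥ e = 0) :
    g * tr e φ h * g⁻¹ = tr (g • e) (co g φ) (co_perp h) := by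
  apply sl_ext'
  intro x
  rw [mul_smul, mul_smul, tr_smul, tr_smul, co_dot, smul_add, smul_inv_smul]
  congr 1
  rw [smul_eq_mulVec' g ((φ ⬝ᵥ _) • e), mulVec_smul, ← smul_eq_mulVec']

theorem tr_congr {e e' φ φ' : ι → F} {h : φ ⬝ᵥ e = 0} {h' : φ' ⬝ᵥ e' = 0} (he : e = e')
    (hφ : φ = φ') : tr e φ h = tr e' φ' h' := by
  subst he
  subst hφ
  rfl

/-- A linear form vanishing on a subspace and with value one at a vector outside. -/
theorem exists_fn (S : Submodule F (ι → F)) {v : ι → F} (hv : v ∉ S) :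
    ∃ ψ : ι → F, (∀ u ∈ S, ψ ⬝ᵥ u = 0) ∧ ψ ⬝ᵥ v = 1 := by
  obtain ⟨f, hf, hS⟩ := Submodule.exists_dual_map_eq_bot_of_notMem hv inferInstance
  have hform : ∀ x : ι → F, (fun i => f (Pi.single i 1)) ⬝ᵥ x = f x := by
    intro x
    conv_rhs => rw [← Finset.univ_sum_single x]
    rw [map_sum, dotProduct]
    refine Finset.sum_congr rfl fun i _ => ?_
    have h1 : (Pi.single i (x i) : ι → F) = x i • Pi.single i 1 := by
      rw [← Pi.single_smul, smul_eq_mul, mul_one]
    rw [h1, map_smul, smul_eq_mul, mul_comm]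
  refine ⟨(f v)⁻¹ • fun i => f (Pi.single i 1), fun u hu => ?_, ?_⟩
  · rw [smul_dotProduct, hform]
    have h1 : f u ∈ Submodule.map f S := Submodule.mem_map_of_mem hu
    rw [hS, Submodule.mem_bot] at h1
    rw [h1, smul_zero]
  · rw [smul_dotProduct, hform, smul_eq_mul, inv_mul_cancel₀ hf]

/-- The span of two vectors is not everything in dimension at least three. -/
theorem exists_notMem_span_pair (hι : 3 ≤ Fintype.card ι) (a b : ι → F) :
    ∃ w : ι → F, w ∉ Submodule.span F {a, b} := by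
  by_contra hcon
  push Not at hcon
  have h1 : Submodule.span F {a, b} = ⊤ := Submodule.eq_top_iff'.2 hcon
  have h2 : Module.finrank F (Submodule.span F ({a, b} : Set (ι → F))) ≤ 2 := by
    classical
    have h3 := finrank_span_finset_le_card (R := F) ({a, b} : Finset (ι → F))
    rw [Finset.coe_insert, Finset.coe_singleton] at h3
    exact h3.trans Finset.card_le_two
  rw [h1, finrank_top, Module.finrank_fintype_fun_eq_card] at h2
  omega

/-- A transvection moving `v` to `v + u` and fixing `S`. -/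
theorem exists_tr_of_notMem_sup (S : Submodule F (ι → F)) {v u : ι → F}
    (h : v ∉ S ⊔ Submodule.span F {u}) :
    ∃ g : SpecialLinearGroup ι F, (∀ s ∈ S, g • s = s) ∧ g • v = v + u := by
  obtain ⟨ψ, h1, h2⟩ := exists_fn _ h
  have hu : ψ ⬝ᵥ u = 0 :=
    h1 u ((le_sup_right : Submodule.span F {u} ≤ _) (Submodule.mem_span_singleton_self u))
  refine ⟨tr u ψ hu, fun s hs => ?_, ?_⟩
  · rw [tr_smul, h1 s ((le_sup_left : S ≤ _) hs), zero_smul, add_zero]
  · rw [tr_smul, h2, one_smul]

/-- A transvection moving `v` to `v + u` and fixing `e`. -/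
theorem exists_tr_of_notMem {e v u : ι → F} (h : v ∉ Submodule.span F {e, u}) :
    ∃ g : SpecialLinearGroup ι F, g • e = e ∧ g • v = v + u ∧
      ∀ x, g • x - x ∈ Submodule.span F {u} := by
  obtain ⟨ψ, h1, h2⟩ := exists_fn _ h
  have hu : ψ ⬝ᵥ u = 0 := h1 u (Submodule.subset_span (by simp))
  have he : ψ ⬝ᵥ e = 0 := h1 e (Submodule.subset_span (by simp))
  refine ⟨tr u ψ hu, ?_, ?_, fun x => ?_⟩
  · rw [tr_smul, he, zero_smul, add_zero]
  · rw [tr_smul, h2, one_smul]
  · rw [tr_smul, add_sub_cancel_left]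
    exact Submodule.smul_mem _ _ (Submodule.mem_span_singleton_self u)

theorem mem_span_pair' {a b x : ι → F} :
    x ∈ Submodule.span F {a, b} ↔ ∃ s t : F, s • a + t • b = x := Submodule.mem_span_pair

/-- The stabilizer of a vector is transitive on the vectors outside the line. -/
theorem exists_fix_map (hι : 3 ≤ Fintype.card ι) {e v v' : ι → F}
    (hv : v ∉ Submodule.span F {e}) (hv' : v' ∉ Submodule.span F {e}) :
    ∃ g : SpecialLinearGroup ι F, g • e = e ∧ g • v = v' := by
  -- the generic case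
  have key : ∀ a b : ι → F, a ∉ Submodule.span F {e} → b ∉ Submodule.span F {e, a} →
      ∃ g : SpecialLinearGroup ι F, g • e = e ∧ g • a = b := by
    intro a b ha hb
    have h1 : a ∉ Submodule.span F {e, b - a} := by
      intro hcon
      obtain ⟨s, t, hst⟩ := mem_span_pair'.1 hcon
      by_cases ht : t = 0
      · apply ha
        rw [Submodule.mem_span_singleton]
        exact ⟨s, by rw [← hst, ht, zero_smul, add_zero]⟩
      · apply hb
        rw [mem_span_pair']
        refine ⟨-(t⁻¹ * s), t⁻¹ + 1, ?_⟩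
        have h2 : t • (b - a) = a - s • e := by
          rw [eq_sub_iff_add_eq, add_comm]; exact hst
        have h3 : b - a = t⁻¹ • (a - s • e) := by
          rw [← h2, smul_smul, inv_mul_cancel₀ ht, one_smul]
        have h4 : b = t⁻¹ • (a - s • e) + a := by rw [← h3]; abel
        rw [h4]
        module
    obtain ⟨g, h2, h3, -⟩ := exists_tr_of_notMem h1
    exact ⟨g, h2, by rw [h3]; abel⟩
  by_cases h : v' ∈ Submodule.span F {e, v}
  · obtain ⟨w, hw⟩ := exists_notMem_span_pair hι e v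
    have hw' : w ∉ Submodule.span F {e} := fun hcon =>
      hw (Submodule.span_mono (by simp) hcon)
    have h1 : v' ∉ Submodule.span F {e, w} := by
      intro hcon
      obtain ⟨s, t, hst⟩ := mem_span_pair'.1 h
      obtain ⟨s', t', hst'⟩ := mem_span_pair'.1 hcon
      by_cases ht : t' = 0
      · apply hv'
        rw [Submodule.mem_span_singleton]
        exact ⟨s', by rw [← hst', ht, zero_smul, add_zero]⟩
      · apply hw
        rw [mem_span_pair']
        refine ⟨t'⁻¹ * (s - s'), t'⁻¹ * t, ?_⟩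
        have h2 : t' • w = s • e + t • v - s' • e := by
          rw [hst, eq_sub_iff_add_eq, add_comm]; exact hst'
        have h3 : w = t'⁻¹ • (s • e + t • v - s' • e) := by
          rw [← h2, smul_smul, inv_mul_cancel₀ ht, one_smul]
        rw [h3]
        module
    obtain ⟨g₁, h2, h3⟩ := key v w hv hw
    obtain ⟨g₂, h4, h5⟩ := key w v' hw' h1
    exact ⟨g₂ * g₁, by rw [mul_smul, h2, h4], by rw [mul_smul, h3, h5]⟩
  · exact key v v' hv h

/-- Transitivity on nonzero vectors. -/
theorem exists_map (hι : 3 ≤ Fintype.card ι) {v v' : ι → F} (hv : v ≠ 0) (hv' : v' ≠ 0) :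
    ∃ g : SpecialLinearGroup ι F, g • v = v' := by
  obtain ⟨e, he⟩ := exists_notMem_span_pair hι v v'
  have h1 : v ∉ Submodule.span F {e} := by
    intro hcon
    obtain ⟨c, hc⟩ := Submodule.mem_span_singleton.1 hcon
    have hc0 : c ≠ 0 := by
      rintro rfl
      exact hv (by rw [← hc, zero_smul])
    apply he
    have : e = c⁻¹ • v := by rw [← hc, smul_smul, inv_mul_cancel₀ hc0, one_smul]
    rw [this]
    exact Submodule.smul_mem _ _ (Submodule.subset_span (by simp))
  have h2 : v' ∉ Submodule.span F {e} := by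
    intro hcon
    obtain ⟨c, hc⟩ := Submodule.mem_span_singleton.1 hcon
    have hc0 : c ≠ 0 := by
      rintro rfl
      exact hv' (by rw [← hc, zero_smul])
    apply he
    have : e = c⁻¹ • v' := by rw [← hc, smul_smul, inv_mul_cancel₀ hc0, one_smul]
    rw [this]
    exact Submodule.smul_mem _ _ (Submodule.subset_span (by simp))
  obtain ⟨g, -, hg⟩ := exists_fix_map hι h1 h2
  exact ⟨g, hg⟩

/-- The linear forms vanishing at `e`. -/
def perp (e : ι → F) : AddSubgroup (ι → F) where
  carrier := {φ | φ ⬝ᵥ e = 0}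
  zero_mem' := zero_dotProduct e
  add_mem' := by
    intro φ ψ h h'
    change (φ + ψ) ⬝ᵥ e = 0
    rw [add_dotProduct, show φ ⬝ᵥ e = 0 from h, show ψ ⬝ᵥ e = 0 from h', add_zero]
  neg_mem' := by
    intro φ h
    change (-φ) ⬝ᵥ e = 0
    rw [neg_dotProduct, show φ ⬝ᵥ e = 0 from h, neg_zero]

theorem mem_perp {e φ : ι → F} : φ ∈ perp e ↔ φ ⬝ᵥ e = 0 := Iff.rfl

variable {X : Type*} [MulAction (SpecialLinearGroup ι F) X]

/-- The action of the transvections with centre `e`. -/
def U (X : Type*) [MulAction (SpecialLinearGroup ι F) X] (e : ι → F) :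
    Act (SpecialLinearGroup ι F) X (perp e) where
  T φ := tr e φ.1 φ.2
  map_add := by
    intro φ ψ
    exact (tr_mul_same_center _ _ _ _ _).symm

theorem U_T (e : ι → F) (φ : perp e) : (U X e).T φ = tr e φ.1 φ.2 := rfl

/-- The orthogonality relation. -/
def kap (χ : AddChar F ℂ) (e : ι → F) (φ : perp e) (w : ι → F) : Prop := χ (φ.1 ⬝ᵥ w) = 1

section Finite

variable [Finite F]

theorem card_fun : Nat.card (ι → F) = Nat.card F ^ Fintype.card ι := by
  rw [Nat.card_fun, Nat.card_eq_fintype_card (α := ι)]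

/-- The order of `perp e`. -/
theorem card_perp {e : ι → F} (he : e ≠ 0) :
    Nat.card F * Nat.card (perp e) = Nat.card (ι → F) := by
  obtain ⟨j, hj⟩ := Function.ne_iff.1 he
  have hj' : e j ≠ 0 := hj
  let f : (ι → F) →+ F := AddMonoidHom.mk' (fun φ => φ ⬝ᵥ e) (fun φ ψ => add_dotProduct _ _ _)
  have hf : Function.Surjective f := by
    intro c
    refine ⟨Pi.single j (c * (e j)⁻¹), ?_⟩
    change Pi.single j (c * (e j)⁻¹) ⬝ᵥ e = c
    rw [single_dotProduct, mul_assoc, inv_mul_cancel₀ hj', mul_one]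
  have h1 := f.ker.card_mul_index
  rw [AddSubgroup.index_ker, AddMonoidHom.range_eq_top.2 hf, AddSubgroup.card_top] at h1
  rw [← h1, mul_comm]
  congr 1

/-- A character of `F` which is trivial on `c F` only for `c = 0`. -/
theorem exists_char (F : Type*) [Field F] [Finite F] :
    ∃ χ : AddChar F ℂ, ∀ c : F, (∀ x, χ (c * x) = 1) → c = 0 := by
  obtain ⟨χ, hχ⟩ := (AddChar.exists_apply_ne_zero (a := (1 : F))).2 one_ne_zero
  refine ⟨χ, fun c hc => ?_⟩
  by_contra h
  apply hχ
  have := hc (c⁻¹ * 1)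
  rwa [mul_inv_cancel_left₀ h] at this

variable {χ : AddChar F ℂ} (hχ : ∀ c : F, (∀ x, χ (c * x) = 1) → c = 0)

include hχ in
theorem mem_span_of_kap {e w : ι → F} (h : ∀ φ : perp e, kap χ e φ w) :
    w ∈ Submodule.span F {e} := by
  by_contra hcon
  obtain ⟨ψ, h1, h2⟩ := exists_fn _ hcon
  have h3 : (1 : F) = 0 := by
    apply hχ
    intro x
    have h4 := h ⟨x • ψ, by
      rw [mem_perp, smul_dotProduct, h1 e (Submodule.mem_span_singleton_self e), smul_zero]⟩
    rw [kap, smul_dotProduct, h2, smul_eq_mul, mul_one] at h4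
    rw [one_mul, h4]
  exact one_ne_zero h3

theorem kap_of_mem_span {e w : ι → F} (hw : w ∈ Submodule.span F {e}) (φ : perp e) :
    kap χ e φ w := by
  obtain ⟨c, rfl⟩ := Submodule.mem_span_singleton.1 hw
  rw [kap, dotProduct_smul, show φ.1 ⬝ᵥ e = 0 from φ.2, smul_zero, AddChar.map_zero_eq_one]

omit [Fintype ι] [DecidableEq ι] in
theorem card_span_singleton {e : ι → F} (he : e ≠ 0) :
    Nat.card (Submodule.span F {e}) = Nat.card F :=
  (Nat.card_congr (LinearEquiv.toSpanNonzeroSingleton F (ι → F) e he).toEquiv).symm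

include hχ in
theorem card_kap {e : ι → F} (he : e ≠ 0) (B : AddSubgroup (perp e)) :
    Nat.card {w // ∀ φ ∈ B, kap χ e φ w} = Nat.card F * B.index := by
  let f : (ι → F) → AddChar (perp e) ℂ := fun w =>
    { toFun := fun φ => χ (φ.1 ⬝ᵥ w)
      map_zero_eq_one' := by
        change χ ((0 : ι → F) ⬝ᵥ w) = 1
        rw [zero_dotProduct, AddChar.map_zero_eq_one]
      map_add_eq_mul' := by
        intro φ ψ
        change χ ((φ.1 + ψ.1) ⬝ᵥ w) = _
        rw [add_dotProduct, AddChar.map_add_eq_mul] }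
  have hr : Nat.card {w // ∀ a, f w a = 1} = Nat.card F := by
    rw [← card_span_singleton he]
    refine Nat.card_congr (Equiv.subtypeEquivRight fun w => ?_)
    exact ⟨fun h => mem_span_of_kap hχ h, fun h φ => kap_of_mem_span h φ⟩
  exact card_ann f (fun v w a => by
    change χ (a.1 ⬝ᵥ (v + w)) = _
    rw [dotProduct_add, AddChar.map_add_eq_mul]
    rfl) hr (card_perp he).symm B

end Finite

end Cfsg.Agent.H79.MinIdxSL
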