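import Mathlib
import Cfsg.Agent.H79.MinIdxSL.Basic

/-!
# The transvections with a given centre in an action of small degree

`SL ι F` (`|F| = q`, `|ι| = n ≥ 3`) acts transitively and nontrivially on the set `X` with less than
`(q ^ n - 1) / (q - 1)` elements.  Let `U e` be the group of transvections with centre `e`.
Then (I) `U e` is regular on one orbit and trivial outside, or (II) the stabilizer in `U e` of every
point `x` consists of the `1 + e φᵀ` where `φ` vanishes at `v = v x`.
-/

set_option autoImplicit false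
set_option linter.unusedSectionVars false

namespace Cfsg.Agent.H79.MinIdxSL

open Matrix Cfsg.Agent.ClassicalGeometry.AutPSL.Root Cfsg.Agent.H79.OrbitDual

variable {ι F : Type*} [Fintype ι] [DecidableEq ι] [Field F]
variable {X : Type*} [MulAction (SpecialLinearGroup ι F) X]

/-- The permutation of `perp e` induced by an element fixing `e`. -/
def perpEquiv (e : ι → F) (g : SpecialLinearGroup ι F) (hg : g • e = e) : perp e ≃ perp e where
  toFun φ := ⟨co g φ.1, by
    have := co_perp (g := g) φ.2
    rwa [hg] at this⟩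
  invFun φ := ⟨co g⁻¹ φ.1, by
    have := co_perp (g := g⁻¹) φ.2
    rwa [inv_smul_eq_iff.2 hg.symm] at this⟩
  left_inv φ := Subtype.ext (co_inv_co g φ.1)
  right_inv φ := Subtype.ext (co_co_inv g φ.1)

theorem U_conj (e : ι → F) (g : SpecialLinearGroup ι F) (hg : g • e = e) (φ : perp e) :
    g * (U X e).T φ * g⁻¹ = (U X e).T (perpEquiv e g hg φ) :=
  (conj_tr g e φ.1 φ.2).trans (tr_congr (h' := (perpEquiv e g hg φ).2) hg rfl)

theorem kap_conj (χ : AddChar F ℂ) (e : ι → F) (g : SpecialLinearGroup ι F) (hg : g • e = e)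
    (φ : perp e) (w : ι → F) : kap χ e (perpEquiv e g hg φ) (g • w) ↔ kap χ e φ w := by
  rw [kap, kap]
  change χ (co g φ.1 ⬝ᵥ (g • w)) = 1 ↔ _
  rw [co_dot_smul]

section

variable [Finite F] (χ : AddChar F ℂ) (e : ι → F)

/-- The annihilator of the stabilizer of `x`. -/
abbrev An (x : X) : Set (ι → F) := (U X e).A (kap χ e) x

theorem mem_An {x : X} {w : ι → F} :
    w ∈ An χ e x ↔ ∀ φ (h : φ ⬝ᵥ e = 0), tr e φ h • x = x → χ (φ ⬝ᵥ w) = 1 :=
  ⟨fun h φ h1 h2 => h ⟨φ, h1⟩ h2, fun h φ h2 => h φ.1 φ.2 h2⟩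

theorem add_mem_An {x : X} {v w : ι → F} (hv : v ∈ An χ e x) (hw : w ∈ An χ e x) :
    v + w ∈ An χ e x := by
  rw [mem_An] at *
  intro φ h1 h2
  rw [dotProduct_add, AddChar.map_add_eq_mul, hv φ h1 h2, hw φ h1 h2, mul_one]

theorem neg_mem_An {x : X} {v : ι → F} (hv : v ∈ An χ e x) : -v ∈ An χ e x := by
  rw [mem_An] at *
  intro φ h1 h2
  rw [dotProduct_neg, AddChar.map_neg_eq_inv, hv φ h1 h2, inv_one]

theorem sub_mem_An {x : X} {v w : ι → F} (hv : v ∈ An χ e x) (hw : w ∈ An χ e x) :
    v - w ∈ An χ e x := by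
  rw [sub_eq_add_neg]
  exact add_mem_An χ e hv (neg_mem_An χ e hw)

theorem span_le_An {x : X} {w : ι → F} (hw : w ∈ Submodule.span F {e}) : w ∈ An χ e x :=
  fun φ _ => kap_of_mem_span hw φ

theorem smul_mem_An {x : X} {w : ι → F} {g : SpecialLinearGroup ι F} (hg : g • e = e) :
    g • w ∈ An χ e (g • x) ↔ w ∈ An χ e x :=
  (U X e).mem_A_conj (kap χ e) g (perpEquiv e g hg) (g • ·) (U_conj e g hg)
    (kap_conj χ e g hg) x w

theorem k_smul {w : ι → F} {g : SpecialLinearGroup ι F} (hg : g • e = e) :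
    (U X e).k (kap χ e) (g • w) = (U X e).k (kap χ e) w :=
  (U X e).k_conj (kap χ e) g (perpEquiv e g hg) (g • ·) (U_conj e g hg)
    (kap_conj χ e g hg) w

/-- The block property. -/
theorem smul_mem_of_k (hk : ∀ w ∉ Submodule.span F {e}, (U X e).k (kap χ e) w = 1) {x : X}
    {v w : ι → F} (hv : v ∈ An χ e x) (hve : v ∉ Submodule.span F {e})
    {g : SpecialLinearGroup ι F} (hg : g • e = e) (hgv : g • v ∈ An χ e x)
    (hw : w ∈ An χ e x) : g • w ∈ An χ e x := by
  have h1 : (U X e).k (kap χ e) (g • v) = 1 := by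
    rw [k_smul χ e hg, hk v hve]
  have h2 := (U X e).A_eq_of_k_eq_one (kap χ e) h1 hgv ((smul_mem_An χ e hg).2 hv)
  change g • w ∈ (U X e).A (kap χ e) x
  rw [h2]
  exact (smul_mem_An χ e hg).2 hw

/-- If the annihilator contains three independent vectors, it is everything. -/
theorem An_eq_univ (hk : ∀ w ∉ Submodule.span F {e}, (U X e).k (kap χ e) w = 1) {x : X}
    {v w : ι → F} (hv : v ∈ An χ e x) (hve : v ∉ Submodule.span F {e})
    (hw : w ∈ An χ e x) (hwe : w ∉ Submodule.span F {e, v}) (u : ι → F) : u ∈ An χ e x := by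
  -- the basic step
  have key : ∀ v w u : ι → F, v ∈ An χ e x → v ∉ Submodule.span F {e} → w ∈ An χ e x →
      w ∉ Submodule.span F {e, v} ⊔ Submodule.span F {u} → u ∈ An χ e x := by
    intro v w u hv hve hw hu
    obtain ⟨g, h1, h2⟩ := exists_tr_of_notMem_sup _ hu
    have hge : g • e = e := h1 e (Submodule.subset_span (by simp))
    have hgv : g • v = v := h1 v (Submodule.subset_span (by simp))
    have h3 := smul_mem_of_k χ e hk hv hve hge (by rw [hgv]; exact hv) hw
    rw [h2] at h3
    have h4 := sub_mem_An χ e h3 hw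
    rwa [add_sub_cancel_left] at h4
  have hwe' : w ∉ Submodule.span F {e} := fun h => hwe (Submodule.span_mono (by simp) h)
  have hvw : v ∉ Submodule.span F {e, w} := by
    intro h
    obtain ⟨s, t, hst⟩ := mem_span_pair'.1 h
    have ht : t ≠ 0 := by
      rintro rfl
      apply hve
      rw [Submodule.mem_span_singleton]
      exact ⟨s, by rw [← hst, zero_smul, add_zero]⟩
    apply hwe
    rw [mem_span_pair']
    refine ⟨-(t⁻¹ * s), t⁻¹, ?_⟩
    have h2 : t • w = v - s • e := by
      rw [eq_sub_iff_add_eq, add_comm]; exact hst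
    have h3 : w = t⁻¹ • (v - s • e) := by
      rw [← h2, smul_smul, inv_mul_cancel₀ ht, one_smul]
    rw [h3]
    module
  -- the line through `v`, the line through `w`
  have hvl : ∀ c : F, c • v ∈ An χ e x := by
    intro c
    apply key v w (c • v) hv hve hw
    rw [sup_eq_left.2]
    · exact hwe
    · rw [Submodule.span_singleton_le_iff_mem]
      exact Submodule.smul_mem _ _ (Submodule.subset_span (by simp))
  have hwl : ∀ c : F, c • w ∈ An χ e x := by
    intro c
    apply key w v (c • w) hw hwe' hv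
    rw [sup_eq_left.2]
    · exact hvw
    · rw [Submodule.span_singleton_le_iff_mem]
      exact Submodule.smul_mem _ _ (Submodule.subset_span (by simp))
  by_cases hu : w ∈ Submodule.span F {e, v} ⊔ Submodule.span F {u}
  · -- `u` is a combination of `e`, `v`, `w`, or `u` in the span of `e`, `v`
    obtain ⟨y, hy, z, hz, hyz⟩ := Submodule.mem_sup.1 hu
    obtain ⟨a, b, hab⟩ := mem_span_pair'.1 hy
    obtain ⟨c, hc⟩ := Submodule.mem_span_singleton.1 hz
    have hc0 : c ≠ 0 := by
      rintro rfl
      apply hwe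
      rw [← hyz, ← hc, zero_smul, add_zero]
      exact hy
    have h1 : c • u = w - a • e - b • v := by
      rw [← hyz, ← hab, ← hc]; abel
    have h2 : u = c⁻¹ • w - ((c⁻¹ * a) • e + (c⁻¹ * b) • v) := by
      have h3 : u = c⁻¹ • (c • u) := by rw [smul_smul, inv_mul_cancel₀ hc0, one_smul]
      rw [h3, h1]
      module
    rw [h2]
    apply sub_mem_An χ e (hwl _)
    apply add_mem_An χ e _ (hvl _)
    apply span_le_An
    exact Submodule.smul_mem _ _ (Submodule.mem_span_singleton_self e)
  · exact key v w u hv hve hw hu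

end

/-- If all transvections with centre `e` act trivially then everything does. -/
theorem smul_eq_of_trivial (hι : 3 ≤ Fintype.card ι) {e : ι → F} (he : e ≠ 0)
    (h : ∀ (x : X) φ (hφ : φ ⬝ᵥ e = 0), tr e φ hφ • x = x) (g : SpecialLinearGroup ι F) (x : X) :
    g • x = x := by
  let N : Subgroup (SpecialLinearGroup ι F) := (MulAction.toPermHom _ X).ker
  have hN : ∀ g, g ∈ N ↔ ∀ x : X, g • x = x := by
    intro g
    rw [MonoidHom.mem_ker, Equiv.ext_iff]
    rfl
  have h1 : ∀ (a φ : ι → F) (hφ : φ ⬝ᵥ a = 0), a ≠ 0 → tr a φ hφ ∈ N := by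
    intro a φ hφ ha
    obtain ⟨g, hg⟩ := exists_map hι he ha
    have h2 : tr e (co g⁻¹ φ) (by
        have := co_perp (g := g⁻¹) hφ
        rwa [← hg, inv_smul_smul] at this) ∈ N := (hN _).2 fun x => h x _ _
    have h3 := (inferInstance : N.Normal).conj_mem _ h2 g
    rw [conj_tr] at h3
    rwa [tr_congr hg (co_co_inv g φ)] at h3
  have h4 : N = ⊤ := by
    rw [eq_top_iff, ← Cfsg.Agent.LieClassical.SLGen.closure_transvections,
      Subgroup.closure_le]
    rintro A ⟨i, j, hij, c, rfl⟩
    rw [transvection_eq_tr]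
    by_cases hc : c = 0
    · have h5 : tr (c • Pi.single i 1) (Pi.single j 1) (by
          rw [dotProduct_smul, single_dotProduct, Pi.single_eq_of_ne hij.symm]; simp) =
          (1 : SpecialLinearGroup ι F) := by
        apply sl_ext'
        intro x
        rw [tr_smul, hc, zero_smul, smul_zero, add_zero, one_smul]
      rw [h5]
      exact N.one_mem
    · apply h1
      intro h5
      have := congrFun h5 i
      simp [hc] at this
  have h5 : g ∈ N := by rw [h4]; trivial
  exact (hN g).1 h5 x

section Count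

variable [Finite F] [Finite X] (χ : AddChar F ℂ) (hχ : ∀ c : F, (∀ x, χ (c * x) = 1) → c = 0)
variable (e : ι → F)

include hχ in
/-- The basic count. -/
theorem count (he : e ≠ 0) {c : ℕ}
    (hc : ∀ w ∉ Submodule.span F {e}, (U X e).k (kap χ e) w = c) :
    Nat.card X + c = Nat.card (U X e).Orb + c * Nat.card (perp e) := by
  have h1 := (U X e).card_eq_of_const (kap χ e) (card_kap hχ he)
    {w | w ∉ Submodule.span F {e}} hc (fun w hw a => kap_of_mem_span (not_not.1 hw) a)
  have h2 : Nat.card (({w | w ∉ Submodule.span F {e}} : Set (ι → F))ᶜ : Set (ι → F)) =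
      Nat.card F := by
    rw [← card_span_singleton he]
    refine Nat.card_congr (Equiv.subtypeEquivRight fun w => ?_)
    rw [Set.mem_compl_iff]
    exact not_not
  have h3 : Nat.card F + Nat.card ({w | w ∉ Submodule.span F {e}} : Set (ι → F)) =
      Nat.card F * Nat.card (perp e) := by
    have h4 := Set.ncard_add_ncard_compl {w : ι → F | w ∉ Submodule.span F {e}}
    rw [← Nat.card_coe_set_eq, ← Nat.card_coe_set_eq, h2] at h4
    rw [card_perp he, ← h4, add_comm]
  rw [h2] at h1
  have hq : 0 < Nat.card F := Nat.card_pos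
  apply Nat.eq_of_mul_eq_mul_left hq
  calc Nat.card F * (Nat.card X + c) = Nat.card F * Nat.card X + c * Nat.card F := by ring
    _ = Nat.card (U X e).Orb * Nat.card F + c * (Nat.card F +
      Nat.card ({w | w ∉ Submodule.span F {e}} : Set (ι → F))) := by rw [h1]; ring
    _ = _ := by rw [h3]; ring

include hχ in
theorem card_An (he : e ≠ 0) (x : X) :
    Nat.card (An χ e x) = Nat.card F * ((U X e).B x).index :=
  (U X e).card_A (kap χ e) (card_kap hχ he) x

include hχ in
/-- Case (I) for the point `y`. -/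
theorem caseI (he : e ≠ 0) (hk : ∀ w ∉ Submodule.span F {e}, (U X e).k (kap χ e) w = 1) {x : X}
    (hx : ∀ w, w ∈ An χ e x) (y : X) :
    ((U X e).rel x y ∧ ∀ φ (h : φ ⬝ᵥ e = 0), tr e φ h • y = y → φ = 0) ∨
    (¬ (U X e).rel x y ∧ ∀ φ (h : φ ⬝ᵥ e = 0), tr e φ h • y = y) := by
  by_cases hr : (U X e).rel x y
  · left
    refine ⟨hr, fun φ h hφ => ?_⟩
    apply dot_ext
    intro w
    rw [zero_dotProduct]
    apply hχ
    intro c
    have h1 : c • w ∈ An χ e y := by
      change c • w ∈ (U X e).A (kap χ e) y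
      rw [← (U X e).A_eq_of_rel (kap χ e) hr]
      exact hx _
    have h2 := (mem_An χ e).1 h1 φ h hφ
    rwa [dotProduct_smul, smul_eq_mul, mul_comm] at h2
  · right
    refine ⟨hr, ?_⟩
    have h1 : ∀ w ∈ An χ e y, w ∈ Submodule.span F {e} := by
      intro w hw
      by_contra hcon
      exact hr ((U X e).rel_of_k_eq_one (kap χ e) (hk w hcon) (hx w) hw)
    have h2 : ((U X e).B y).index ≤ 1 := by
      have h3 := card_An χ hχ e he y
      have h4 : Nat.card (An χ e y) ≤ Nat.card (Submodule.span F {e}) :=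
        Nat.card_le_card_of_injective (fun w => ⟨w.1, h1 w.1 w.2⟩) (fun a b h =>
          Subtype.ext (congrArg (fun z : Submodule.span F {e} => z.1) h))
      rw [h3, card_span_singleton he] at h4
      exact Nat.le_of_mul_le_mul_left (by rwa [mul_one]) Nat.card_pos
    have h3 : (U X e).B y = ⊤ := by
      rw [← AddSubgroup.index_eq_one]
      have : ((U X e).B y).index ≠ 0 := AddSubgroup.index_ne_zero_of_finite
      omega
    intro φ h
    have h4 : (⟨φ, h⟩ : perp e) ∈ (U X e).B y := by rw [h3]; trivial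
    exact h4

include hχ in
/-- Case (II) for the point `x`. -/
theorem caseII (he : e ≠ 0)
    (hA : ∀ (x : X) (v : ι → F), v ∈ An χ e x → v ∉ Submodule.span F {e} →
      ∀ w ∈ An χ e x, w ∈ Submodule.span F {e, v})
    (x : X) (hx : ((U X e).B x).index = Nat.card F) :
    ∃ v ∉ Submodule.span F {e}, ∀ φ (h : φ ⬝ᵥ e = 0), tr e φ h • x = x ↔ φ ⬝ᵥ v = 0 := by
  have hq1 : 1 < Nat.card F := Finite.one_lt_card
  have h3 := card_An χ hχ e he x
  rw [hx] at h3
  obtain ⟨v, hv, hve⟩ : ∃ v ∈ An χ e x, v ∉ Submodule.span F {e} := by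
    by_contra hcon
    push Not at hcon
    have h4 : Nat.card (An χ e x) ≤ Nat.card (Submodule.span F {e}) :=
      Nat.card_le_card_of_injective (fun w => ⟨w.1, hcon w.1 w.2⟩) (fun a b h =>
        Subtype.ext (congrArg (fun z : Submodule.span F {e} => z.1) h))
    rw [h3, card_span_singleton he] at h4
    nlinarith
  have hle := hA x v hv hve
  have hcard : Nat.card (Submodule.span F ({e, v} : Set (ι → F))) ≤ Nat.card F * Nat.card F := by
    rw [← Nat.card_prod]
    refine Nat.card_le_card_of_surjective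
      (fun p : F × F => (⟨p.1 • e + p.2 • v, mem_span_pair'.2 ⟨p.1, p.2, rfl⟩⟩ :
        Submodule.span F ({e, v} : Set (ι → F)))) ?_
    rintro ⟨w, hw⟩
    obtain ⟨s, t, hst⟩ := mem_span_pair'.1 hw
    exact ⟨(s, t), Subtype.ext hst⟩
  have heq : ∀ w ∈ Submodule.span F ({e, v} : Set (ι → F)), w ∈ An χ e x := by
    have h4 : (An χ e x) = ((Submodule.span F ({e, v} : Set (ι → F)) : Submodule F (ι → F)) :
        Set (ι → F)) := by
      apply Set.eq_of_subset_of_ncard_le hle
      rw [← Nat.card_coe_set_eq, ← Nat.card_coe_set_eq, h3]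
      exact hcard
    intro w hw
    rw [h4]
    exact hw
  let C : AddSubgroup (perp e) := {
    carrier := {φ | φ.1 ⬝ᵥ v = 0}
    zero_mem' := zero_dotProduct v
    add_mem' := by
      intro φ ψ h h'
      change (φ.1 + ψ.1) ⬝ᵥ v = 0
      rw [add_dotProduct, show φ.1 ⬝ᵥ v = 0 from h, show ψ.1 ⬝ᵥ v = 0 from h', add_zero]
    neg_mem' := by
      intro φ h
      change (-φ.1) ⬝ᵥ v = 0
      rw [neg_dotProduct, show φ.1 ⬝ᵥ v = 0 from h, neg_zero] }
  have hBC : (U X e).B x ≤ C := by
    intro φ hφ
    change φ.1 ⬝ᵥ v = 0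
    apply hχ
    intro c
    have h1 := heq (c • v) (Submodule.smul_mem _ _ (Submodule.subset_span (by simp)))
    have h2 := (mem_An χ e).1 h1 φ.1 φ.2 hφ
    rwa [dotProduct_smul, smul_eq_mul, mul_comm] at h2
  have hCi : C.index = Nat.card F := by
    have h1 := card_kap hχ he C
    have h2 : Nat.card {w // ∀ φ ∈ C, kap χ e φ w} = Nat.card (An χ e x) := by
      refine Nat.card_congr (Equiv.subtypeEquivRight fun w => ⟨fun h φ hφ => h φ (hBC hφ), ?_⟩)
      intro hw φ hφ
      obtain ⟨s, t, hst⟩ := mem_span_pair'.1 (hle w hw)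
      rw [kap, ← hst, dotProduct_add, dotProduct_smul, dotProduct_smul,
        show φ.1 ⬝ᵥ e = 0 from φ.2, show φ.1 ⬝ᵥ v = 0 from hφ, smul_zero, smul_zero, add_zero,
        AddChar.map_zero_eq_one]
    rw [h2, h3] at h1
    exact (Nat.eq_of_mul_eq_mul_left (by omega) h1).symm
  have hBC' : (U X e).B x = C := by
    apply AddSubgroup.eq_of_le_of_card_ge hBC
    have h1 := ((U X e).B x).card_mul_index
    have h2 := C.card_mul_index
    rw [hx] at h1
    rw [hCi, ← h1] at h2
    exact (Nat.eq_of_mul_eq_mul_right (by omega) h2).le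
  refine ⟨v, hve, fun φ h => ?_⟩
  change (⟨φ, h⟩ : perp e) ∈ (U X e).B x ↔ _
  rw [hBC']
  exact Iff.rfl

include hχ in
theorem tri_aux (hι : 3 ≤ Fintype.card ι) [MulAction.IsPretransitive (SpecialLinearGroup ι F) X]
    (hX1 : 1 < Nat.card X)
    (hN : Nat.card X * (Nat.card F - 1) + 1 < Nat.card F ^ Fintype.card ι) (he : e ≠ 0) :
    ((∀ x : X, (∀ φ (h : φ ⬝ᵥ e = 0), tr e φ h • x = x) ∨
        (∀ φ (h : φ ⬝ᵥ e = 0), tr e φ h • x = x → φ = 0)) ∧
      Nat.card {x : X // ∀ φ (h : φ ⬝ᵥ e = 0), tr e φ h • x = x → φ = 0} =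
        Nat.card (perp e)) ∨
    (∀ x : X, ∃ v ∉ Submodule.span F {e}, ∀ φ (h : φ ⬝ᵥ e = 0),
      tr e φ h • x = x ↔ φ ⬝ᵥ v = 0) := by
  have hq1 : 1 < Nat.card F := Finite.one_lt_card
  obtain ⟨v₀, hv₀⟩ : ∃ v₀ : ι → F, v₀ ∉ Submodule.span F {e} := by
    obtain ⟨w, hw⟩ := exists_notMem_span_pair (F := F) hι e e
    exact ⟨w, by simpa using hw⟩
  obtain ⟨c, hc⟩ : ∃ c, ∀ w ∉ Submodule.span F {e}, (U X e).k (kap χ e) w = c := by
    refine ⟨(U X e).k (kap χ e) v₀, fun w hw => ?_⟩
    obtain ⟨g, h1, h2⟩ := exists_fix_map hι hv₀ hw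
    rw [← h2, k_smul χ e h1]
  have hcount := count χ hχ e he hc
  have hn : 1 ≤ Fintype.card ι := by omega
  have hQ : Nat.card (perp e) = Nat.card F ^ (Fintype.card ι - 1) := by
    have h1 := card_perp (F := F) he
    rw [card_fun, ← Nat.sub_add_cancel hn, pow_succ, mul_comm] at h1
    exact Nat.eq_of_mul_eq_mul_right (by omega) h1
  have hqn : Nat.card F ^ Fintype.card ι = Nat.card F * Nat.card (perp e) := by
    rw [card_perp he, card_fun]
  rw [hqn] at hN
  have hm1 : 1 ≤ Nat.card (U X e).Orb := by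
    have hX : Nonempty X := (Nat.card_pos_iff.1 (by omega)).1
    obtain ⟨x⟩ := hX
    have : Nonempty (U X e).Orb := ⟨Quotient.mk _ x⟩
    exact Nat.card_pos
  have hQ1 : 1 < Nat.card (perp e) := by
    rw [hQ]
    exact Nat.one_lt_pow (by omega) hq1
  set q := Nat.card F with hqdef
  set Q := Nat.card (perp e) with hQdef
  set d := Nat.card X with hd
  set m := Nat.card (U X e).Orb with hm
  obtain ⟨r, hr⟩ : ∃ r, q = r + 1 := ⟨q - 1, by omega⟩
  obtain ⟨R, hR⟩ : ∃ R, Q = R + 1 := ⟨Q - 1, by omega⟩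
  have hc2 : c < 2 := by
    by_contra hcon
    push Not at hcon
    have h1 : 1 + 2 * R ≤ d := by
      rw [hR] at hcount
      have : c * (R + 1) = c * R + c := by ring
      nlinarith
    have h2 : (1 + 2 * R) * r ≤ d * r := Nat.mul_le_mul_right _ h1
    rw [hr, hR, Nat.add_sub_cancel] at hN
    have h3 : 1 ≤ R := by omega
    have h4 : 1 ≤ r := by omega
    nlinarith [Nat.mul_le_mul h3 h4]
  interval_cases c
  · -- trivial action
    exfalso
    have h1 : ∀ (x : X) φ (hφ : φ ⬝ᵥ e = 0), tr e φ hφ • x = x := by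
      intro x
      have h1 : ∀ w ∈ An χ e x, w ∈ Submodule.span F {e} := by
        intro w hw
        by_contra hcon
        exact (U X e).notMem_A_of_k_eq_zero (kap χ e) (hc w hcon) x hw
      have h2 : ((U X e).B x).index ≤ 1 := by
        have h3 := card_An χ hχ e he x
        have h4 : Nat.card (An χ e x) ≤ Nat.card (Submodule.span F {e}) :=
          Nat.card_le_card_of_injective (fun w => ⟨w.1, h1 w.1 w.2⟩) (fun a b h =>
            Subtype.ext (congrArg (fun z : Submodule.span F {e} => z.1) h))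
        rw [h3, card_span_singleton he] at h4
        exact Nat.le_of_mul_le_mul_left (by rwa [mul_one]) Nat.card_pos
      have h3 : (U X e).B x = ⊤ := by
        rw [← AddSubgroup.index_eq_one]
        have : ((U X e).B x).index ≠ 0 := AddSubgroup.index_ne_zero_of_finite
        omega
      intro φ h
      have h4 : (⟨φ, h⟩ : perp e) ∈ (U X e).B x := by rw [h3]; trivial
      exact h4
    have h2 := smul_eq_of_trivial hι he h1
    obtain ⟨x, y, hxy⟩ := (Finite.one_lt_card_iff_nontrivial.1 hX1).exists_pair_ne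
    obtain ⟨g, hg⟩ := MulAction.exists_smul_eq (SpecialLinearGroup ι F) x y
    exact hxy (by rw [← hg, h2])
  · by_cases hA : ∀ (x : X) (v : ι → F), v ∈ An χ e x → v ∉ Submodule.span F {e} →
      ∀ w ∈ An χ e x, w ∈ Submodule.span F {e, v}
    · right
      -- the orbits have length at most `q`
      have hle : ∀ x : X, ((U X e).B x).index ≤ q := by
        intro x
        have h3 := card_An χ hχ e he x
        by_cases hv : ∃ v ∈ An χ e x, v ∉ Submodule.span F {e}
        · obtain ⟨v, hv, hve⟩ := hv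
          have hcard : Nat.card (Submodule.span F ({e, v} : Set (ι → F))) ≤
              Nat.card F * Nat.card F := by
            rw [← Nat.card_prod]
            refine Nat.card_le_card_of_surjective
              (fun p : F × F => (⟨p.1 • e + p.2 • v, mem_span_pair'.2 ⟨p.1, p.2, rfl⟩⟩ :
                Submodule.span F ({e, v} : Set (ι → F)))) ?_
            rintro ⟨w, hw⟩
            obtain ⟨s, t, hst⟩ := mem_span_pair'.1 hw
            exact ⟨(s, t), Subtype.ext hst⟩
          have h4 : Nat.card (An χ e x) ≤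
              Nat.card (Submodule.span F ({e, v} : Set (ι → F))) :=
            Nat.card_le_card_of_injective (fun w => ⟨w.1, hA x v hv hve w.1 w.2⟩) (fun a b h =>
              Subtype.ext (congrArg (fun z : Submodule.span F ({e, v} : Set (ι → F)) => z.1) h))
          rw [h3] at h4
          exact Nat.le_of_mul_le_mul_left (h4.trans hcard) (by omega)
        · push Not at hv
          have h4 : Nat.card (An χ e x) ≤ Nat.card (Submodule.span F {e}) :=
            Nat.card_le_card_of_injective (fun w => ⟨w.1, hv w.1 w.2⟩) (fun a b h =>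
              Subtype.ext (congrArg (fun z : Submodule.span F {e} => z.1) h))
          rw [h3, card_span_singleton he] at h4
          have h5 : ((U X e).B x).index ≤ 1 :=
            Nat.le_of_mul_le_mul_left (by rwa [mul_one]) (by omega : 0 < q)
          omega
      -- `|X| = m q`
      have hmq : m * q ≤ d := by
        obtain ⟨s, hs⟩ : r ∣ R := by
          have h1 := Nat.sub_one_dvd_pow_sub_one q (Fintype.card ι - 1)
          rw [← hQ, hr, hR, Nat.add_sub_cancel, Nat.add_sub_cancel] at h1
          exact h1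
        rw [one_mul] at hcount
        rw [hr, hR, Nat.add_sub_cancel] at hN
        have h1 : d = m + R := by omega
        have h2 : m * r < R + r := by
          rw [h1] at hN
          nlinarith
        have h3 : m ≤ s := by
          rw [hs] at h2
          have h4 : m * r < (s + 1) * r := by nlinarith
          have h5 := lt_of_mul_lt_mul_right h4 (Nat.zero_le r)
          omega
        have h4 : m * r ≤ R := by
          rw [hs, mul_comm r s]
          exact Nat.mul_le_mul_right _ h3
        rw [h1, hr]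
        nlinarith
      intro x
      exact caseII χ hχ e he hA x ((U X e).index_eq_of_le hle hmq x)
    · left
      push Not at hA
      obtain ⟨x, v, hv, hve, w, hw, hwe⟩ := hA
      have hx : ∀ w, w ∈ An χ e x := An_eq_univ χ e hc hv hve hw hwe
      have h1 := caseI χ hχ e he hc hx
      refine ⟨fun y => ?_, ?_⟩
      · rcases h1 y with h | h
        · exact Or.inr h.2
        · exact Or.inl h.2
      · have h2 : Nat.card {x : X // ∀ φ (h : φ ⬝ᵥ e = 0), tr e φ h • x = x → φ = 0} =
            Nat.card {y // (U X e).rel x y} := by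
          refine Nat.card_congr (Equiv.subtypeEquivRight fun y => ?_)
          rcases h1 y with h | h
          · exact ⟨fun _ => h.1, fun _ => h.2⟩
          · refine ⟨fun h' => ?_, fun h' => absurd h' h.1⟩
            exfalso
            have : Nontrivial (perp e) := Finite.one_lt_card_iff_nontrivial.1 hQ1
            obtain ⟨φ, hφ⟩ := exists_ne (0 : perp e)
            exact hφ (Subtype.ext (h' φ.1 φ.2 (h.2 φ.1 φ.2)))
        rw [h2, (U X e).card_orbit]
        have h3 := card_An χ hχ e he x
        have h4 : Nat.card (An χ e x) = Nat.card (ι → F) := by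
          have h5 : An χ e x = Set.univ := Set.eq_univ_of_forall hx
          rw [h5, Nat.card_univ]
        rw [h4, ← card_perp he] at h3
        exact (Nat.eq_of_mul_eq_mul_left (by omega) h3).symm

end Count

/-- The trichotomy. -/
theorem tri [Finite F] [Finite X] (hι : 3 ≤ Fintype.card ι)
    [MulAction.IsPretransitive (SpecialLinearGroup ι F) X] (hX1 : 1 < Nat.card X)
    (hN : Nat.card X * (Nat.card F - 1) + 1 < Nat.card F ^ Fintype.card ι) {e : ι → F}
    (he : e ≠ 0) :
    ((∀ x : X, (∀ φ (h : φ ⬝ᵥ e = 0), tr e φ h • x = x) ∨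
        (∀ φ (h : φ ⬝ᵥ e = 0), tr e φ h • x = x → φ = 0)) ∧
      Nat.card {x : X // ∀ φ (h : φ ⬝ᵥ e = 0), tr e φ h • x = x → φ = 0} =
        Nat.card (perp e)) ∨
    (∀ x : X, ∃ v ∉ Submodule.span F {e}, ∀ φ (h : φ ⬝ᵥ e = 0),
      tr e φ h • x = x ↔ φ ⬝ᵥ v = 0) := by
  obtain ⟨χ, hχ⟩ := exists_char F
  exact tri_aux χ hχ e hι hX1 hN he

end Cfsg.Agent.H79.MinIdxSL
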