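import Mathlib
import Cfsg.Agent.H79.MinIdxSL.Tri

/-!
# Exclusion of case (II), duality: in an action of small degree every `U e` is regular
-/

set_option autoImplicit false
set_option linter.unusedSectionVars false

namespace Cfsg.Agent.H79.MinIdxSL

open Matrix Cfsg.Agent.ClassicalGeometry.AutPSL.Root Cfsg.Agent.H79.OrbitDual

variable {ι F : Type*} [Fintype ι] [DecidableEq ι] [Field F]
variable {X : Type*} [MulAction (SpecialLinearGroup ι F) X]

theorem span_pair_eq {a b c d : ι → F} (ha : a ≠ 0) (hb : b ∉ Submodule.span F {a})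
    (h1 : a ∈ Submodule.span F {c, d}) (h2 : b ∈ Submodule.span F {c, d}) :
    Submodule.span F {a, b} = Submodule.span F {c, d} := by
  apply Submodule.eq_of_le_of_finrank_le
  · rw [Submodule.span_le]
    rintro x (rfl | rfl)
    · exact h1
    · exact h2
  · have h3 : Module.finrank F (Submodule.span F ({c, d} : Set (ι → F))) ≤ 2 := by
      classical
      have h3 := finrank_span_finset_le_card (R := F) ({c, d} : Finset (ι → F))
      rw [Finset.coe_insert, Finset.coe_singleton] at h3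
      exact h3.trans Finset.card_le_two
    refine h3.trans ?_
    have h4 : LinearIndependent F ![a, b] := by
      rw [LinearIndependent.pair_iff]
      intro s t hst
      have ht : t = 0 := by
        by_contra ht
        apply hb
        rw [Submodule.mem_span_singleton]
        refine ⟨-(t⁻¹ * s), ?_⟩
        have h5 : t • b = -(s • a) := by
          rw [eq_neg_iff_add_eq_zero, add_comm]
          exact hst
        have h6 : b = t⁻¹ • (t • b) := by rw [smul_smul, inv_mul_cancel₀ ht, one_smul]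
        rw [h6, h5]
        module
      rw [ht, zero_smul, add_zero] at hst
      rcases smul_eq_zero.1 hst with h | h
      · exact ⟨h, ht⟩
      · exact absurd h ha
    have h5 := finrank_span_eq_card h4
    rw [Fintype.card_fin] at h5
    have h6 : Set.range ![a, b] = {a, b} := by
      ext x
      constructor
      · rintro ⟨i, rfl⟩
        fin_cases i <;> simp
      · rintro (rfl | rfl)
        exacts [⟨0, rfl⟩, ⟨1, rfl⟩]
    rw [h6] at h5
    exact h5.ge

/-- Product formula: `[tr e φ, tr e' φ']`. -/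
theorem comm_tr {e e' φ φ' : ι → F} (h : φ ⬝ᵥ e = 0) (h' : φ' ⬝ᵥ e' = 0) (h2 : φ' ⬝ᵥ e = 0) :
    tr e φ h * tr e' φ' h' * (tr e φ h)⁻¹ * (tr e' φ' h')⁻¹ =
      tr e ((φ ⬝ᵥ e') • φ') (by rw [smul_dotProduct, h2, smul_zero]) := by
  rw [mul_inv_eq_iff_eq_mul]
  rw [mul_inv_eq_iff_eq_mul]
  apply sl_ext'
  intro x
  rw [mul_smul, mul_smul, mul_smul]
  simp only [tr_smul, dotProduct_add, dotProduct_smul, smul_dotProduct, h', h2, smul_eq_mul,
    mul_zero, add_zero]
  module

/-- Case (II) for one nonzero vector gives it for all. -/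
theorem two_all (hι : 3 ≤ Fintype.card ι) {e₀ : ι → F} (he₀ : e₀ ≠ 0)
    (h : ∀ x : X, ∃ v ∉ Submodule.span F {e₀}, ∀ φ (h : φ ⬝ᵥ e₀ = 0),
      tr e₀ φ h • x = x ↔ φ ⬝ᵥ v = 0) {e : ι → F} (he : e ≠ 0) (x : X) :
    ∃ v ∉ Submodule.span F {e}, ∀ φ (h : φ ⬝ᵥ e = 0), tr e φ h • x = x ↔ φ ⬝ᵥ v = 0 := by
  obtain ⟨g, hg⟩ := exists_map hι he₀ he
  obtain ⟨v, hv, hv2⟩ := h (g⁻¹ • x)
  refine ⟨g • v, ?_, fun φ hφ => ?_⟩
  · intro hcon
    apply hv
    obtain ⟨c, hc⟩ := Submodule.mem_span_singleton.1 hcon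
    rw [Submodule.mem_span_singleton]
    refine ⟨c, ?_⟩
    rw [← hg, ← smul_comm] at hc
    have h2 := (smul_left_cancel_iff g).1 hc
    exact h2
  · have h1 : co g⁻¹ φ ⬝ᵥ e₀ = 0 := by
      have := co_perp (g := g⁻¹) hφ
      rwa [← hg, inv_smul_smul] at this
    have h2 := hv2 (co g⁻¹ φ) h1
    have h3 : tr e φ hφ = g * tr e₀ (co g⁻¹ φ) h1 * g⁻¹ := by
      rw [conj_tr]
      exact tr_congr hg.symm (co_co_inv g φ).symm
    rw [h3, mul_smul, mul_smul, smul_eq_iff_eq_inv_smul, h2, co_dot, inv_inv]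

/-- Case (II) does not occur. -/
theorem not_two (hι : 3 ≤ Fintype.card ι) (x : X)
    (h : ∀ e : ι → F, e ≠ 0 → ∃ v ∉ Submodule.span F {e}, ∀ φ (h : φ ⬝ᵥ e = 0),
      tr e φ h • x = x ↔ φ ⬝ᵥ v = 0) : False := by
  choose! v hv hv2 using h
  -- the commutator argument
  have keyC : ∀ e e' φ φ' : ι → F, e ≠ 0 → e' ≠ 0 → φ ⬝ᵥ e = 0 → φ ⬝ᵥ v e = 0 → φ ⬝ᵥ e' ≠ 0 →
      φ' ⬝ᵥ e' = 0 → φ' ⬝ᵥ v e' = 0 → φ' ⬝ᵥ e = 0 → φ' ⬝ᵥ v e = 0 := by
    intro e e' φ φ' he he' h1 h2 h3 h4 h5 h6
    have h7 : (tr e φ h1 * tr e' φ' h4 * (tr e φ h1)⁻¹ * (tr e' φ' h4)⁻¹) • x = x := by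
      have h8 := (hv2 e he φ h1).2 h2
      have h9 := (hv2 e' he' φ' h4).2 h5
      have h8' : (tr e φ h1)⁻¹ • x = x := by rw [inv_smul_eq_iff]; exact h8.symm
      have h9' : (tr e' φ' h4)⁻¹ • x = x := by rw [inv_smul_eq_iff]; exact h9.symm
      rw [mul_smul, mul_smul, mul_smul, h9', h8', h9, h8]
    rw [comm_tr h1 h4 h6] at h7
    have h8 := (hv2 e he _ _).1 h7
    rw [smul_dotProduct, smul_eq_mul] at h8
    exact (mul_eq_zero.1 h8).resolve_left h3
  -- symmetry
  have keyS : ∀ a b : ι → F, a ≠ 0 → b ≠ 0 → a ∈ Submodule.span F {b, v b} →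
      b ∈ Submodule.span F {a, v a} := by
    intro a b ha hb hab
    by_contra hcon
    obtain ⟨φ, h1, h2⟩ := exists_fn _ hcon
    have h3 : v a ∈ Submodule.span F {b, v b} := by
      by_contra hcon2
      obtain ⟨φ', h4, h5⟩ := exists_fn _ hcon2
      have h6 := keyC a b φ φ' ha hb (h1 _ (Submodule.subset_span (by simp)))
        (h1 _ (Submodule.subset_span (by simp))) (by rw [h2]; exact one_ne_zero)
        (h4 _ (Submodule.subset_span (by simp))) (h4 _ (Submodule.subset_span (by simp)))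
        (h4 _ hab)
      rw [h5] at h6
      exact one_ne_zero h6
    apply hcon
    rw [span_pair_eq ha (hv a ha) hab h3]
    exact Submodule.subset_span (by simp)
  -- any two lines agree
  have keyL : ∀ e e' : ι → F, e ≠ 0 → e' ≠ 0 → e' ∈ Submodule.span F {e, v e} := by
    intro e e' he he'
    by_contra hcon
    have hcon' : e ∉ Submodule.span F {e', v e'} := fun h => hcon (keyS e e' he he' h)
    obtain ⟨φ, h1, h2⟩ := exists_fn _ hcon
    have h3 : v e ∈ Submodule.span F {e', v e'} ⊔ Submodule.span F {e} := by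
      by_contra hcon2
      obtain ⟨φ', h4, h5⟩ := exists_fn _ hcon2
      have h4' : ∀ u ∈ Submodule.span F {e', v e'}, φ' ⬝ᵥ u = 0 := fun u hu =>
        h4 u ((le_sup_left : Submodule.span F {e', v e'} ≤ _) hu)
      have h6 := keyC e e' φ φ' he he' (h1 _ (Submodule.subset_span (by simp)))
        (h1 _ (Submodule.subset_span (by simp))) (by rw [h2]; exact one_ne_zero)
        (h4' _ (Submodule.subset_span (by simp))) (h4' _ (Submodule.subset_span (by simp)))
        (h4 _ ((le_sup_right : Submodule.span F {e} ≤ _) (Submodule.mem_span_singleton_self e)))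
      rw [h5] at h6
      exact one_ne_zero h6
    obtain ⟨z, hz, y, hy, hzy⟩ := Submodule.mem_sup.1 h3
    obtain ⟨c, rfl⟩ := Submodule.mem_span_singleton.1 hy
    have hze : z = v e - c • e := by rw [← hzy]; abel
    have hz2 : z ∈ Submodule.span F {e, v e} := by
      rw [hze, mem_span_pair']
      exact ⟨-c, 1, by module⟩
    have hz3 : z ∉ Submodule.span F {e} := by
      intro hcon2
      apply hv e he
      rw [← hzy]
      exact Submodule.add_mem _ hcon2
        (Submodule.smul_mem _ _ (Submodule.mem_span_singleton_self e))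
    have hz0 : z ≠ 0 := by
      rintro rfl
      exact hz3 (Submodule.zero_mem _)
    have h5 := keyS z e hz0 he hz2
    have h6 := keyS z e' hz0 he' hz
    have h7 : Submodule.span F {e, z} = Submodule.span F {z, v z} :=
      span_pair_eq he hz3 h5 (Submodule.subset_span (by simp))
    have h8 : Submodule.span F {e, z} = Submodule.span F {e, v e} :=
      span_pair_eq he hz3 (Submodule.subset_span (by simp)) hz2
    apply hcon
    rw [← h8, h7]
    exact h6
  -- contradiction
  have : Nonempty ι := Fintype.card_pos_iff.1 (by omega)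
  obtain ⟨i⟩ := this
  have he : (Pi.single i 1 : ι → F) ≠ 0 := by simp
  obtain ⟨w, hw⟩ := exists_notMem_span_pair hι (Pi.single i 1) (v (Pi.single i 1))
  apply hw
  apply keyL _ _ he
  rintro rfl
  exact hw (Submodule.zero_mem _)

/-! ### The dual action -/

theorem coe_ext {A B : SpecialLinearGroup ι F} (h : (A : Matrix ι ι F) = (B : Matrix ι ι F)) :
    A = B := Subtype.ext h

/-- The inverse transpose. -/
def iTf (g : SpecialLinearGroup ι F) : SpecialLinearGroup ι F :=
  ⟨((g⁻¹ : SpecialLinearGroup ι F) : Matrix ι ι F)ᵀ, by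
    rw [det_transpose]; exact (g⁻¹).2⟩

theorem coe_iTf (g : SpecialLinearGroup ι F) :
    (iTf g : Matrix ι ι F) = ((g⁻¹ : SpecialLinearGroup ι F) : Matrix ι ι F)ᵀ := rfl

/-- The inverse transpose as a homomorphism. -/
def iT : SpecialLinearGroup ι F →* SpecialLinearGroup ι F where
  toFun := iTf
  map_one' := by
    apply coe_ext
    change (((1 : SpecialLinearGroup ι F)⁻¹).1)ᵀ = 1
    rw [inv_one]
    exact transpose_one
  map_mul' := by
    intro g h
    apply coe_ext
    change (((g * h)⁻¹).1)ᵀ = ((g⁻¹).1)ᵀ * ((h⁻¹).1)ᵀ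
    rw [_root_.mul_inv_rev]
    exact transpose_mul _ _

theorem coe_iT (g : SpecialLinearGroup ι F) :
    (iT g : Matrix ι ι F) = ((g⁻¹ : SpecialLinearGroup ι F) : Matrix ι ι F)ᵀ := rfl

theorem iT_iT (g : SpecialLinearGroup ι F) : iT (iT g) = g := by
  apply coe_ext
  have h2 : ((iT g)⁻¹ : SpecialLinearGroup ι F) = iT g⁻¹ := (map_inv _ _).symm
  rw [coe_iT, h2, coe_iT, transpose_transpose, inv_inv]

/-- The action twisted by the inverse transpose. -/
structure Tw (X : Type*) where
  /-- the element of `Tw X` given by `x` -/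
  of ::
  /-- the element of `X` -/
  val : X

/-- `X` and `Tw X`. -/
def twEquiv (X : Type*) : X ≃ Tw X := ⟨Tw.of, Tw.val, fun _ => rfl, fun _ => rfl⟩

instance instMulActionTw79 : MulAction (SpecialLinearGroup ι F) (Tw X) where
  smul g x := Tw.of (iT g • x.val)
  one_smul x := by
    change Tw.of (iT (1 : SpecialLinearGroup ι F) • x.val) = x
    rw [map_one, one_smul]
  mul_smul g h x := by
    change Tw.of (iT (g * h) • x.val) = Tw.of (iT g • (iT h • x.val))
    rw [map_mul, mul_smul]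

theorem tw_smul (g : SpecialLinearGroup ι F) (x : Tw X) : g • x = Tw.of (iT g • x.val) := rfl

instance instFiniteTw79 [Finite X] : Finite (Tw X) := Finite.of_equiv X (twEquiv X)

instance instPretransitiveTw79 [h : MulAction.IsPretransitive (SpecialLinearGroup ι F) X] :
    MulAction.IsPretransitive (SpecialLinearGroup ι F) (Tw X) where
  exists_smul_eq x y := by
    obtain ⟨g, hg⟩ := h.exists_smul_eq x.val y.val
    refine ⟨iT g, ?_⟩
    rw [tw_smul, iT_iT, hg]

theorem iT_tr (φ e : ι → F) (h : e ⬝ᵥ φ = 0) (h' : φ ⬝ᵥ e = 0) :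
    iT (tr φ e h) = (tr e φ h')⁻¹ := by
  have h1 : (tr φ e h)⁻¹ = tr φ (-e) (by rw [neg_dotProduct, h, neg_zero]) := by
    rw [inv_eq_iff_mul_eq_one, tr_mul_same_center]
    apply sl_ext'
    intro x
    rw [tr_smul, add_neg_cancel, zero_dotProduct, zero_smul, add_zero, one_smul]
  have h2 : (tr e φ h')⁻¹ = tr (-e) φ (by rw [dotProduct_neg, h', neg_zero]) := by
    rw [inv_eq_iff_mul_eq_one, tr_mul_same_axis]
    apply sl_ext'
    intro x
    rw [tr_smul, add_neg_cancel, smul_zero, add_zero, one_smul]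
  change ((tr φ e h)⁻¹).transpose = _
  rw [h1, h2]
  apply Subtype.ext
  change (1 + vecMulVec φ (-e))ᵀ = 1 + vecMulVec (-e) φ
  rw [transpose_add, transpose_one, transpose_vecMulVec]

theorem tw_tr_smul (φ e : ι → F) (h : e ⬝ᵥ φ = 0) (h' : φ ⬝ᵥ e = 0) (x : X) :
    tr φ e h • Tw.of x = Tw.of x ↔ tr e φ h' • x = x := by
  rw [tw_smul, iT_tr φ e h h', Tw.of.injEq, inv_smul_eq_iff]
  exact eq_comm

/-- A nonzero linear form vanishing at two given vectors. -/
theorem exists_perp_pair (hι : 3 ≤ Fintype.card ι) (a b : ι → F) :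
    ∃ φ : ι → F, φ ≠ 0 ∧ φ ⬝ᵥ a = 0 ∧ φ ⬝ᵥ b = 0 := by
  obtain ⟨w, hw⟩ := exists_notMem_span_pair hι a b
  obtain ⟨φ, h1, h2⟩ := exists_fn _ hw
  refine ⟨φ, ?_, h1 _ (Submodule.subset_span (by simp)), h1 _ (Submodule.subset_span (by simp))⟩
  rintro rfl
  rw [zero_dotProduct] at h2
  exact zero_ne_one h2

/-- Regularity. -/
theorem regular [Finite F] [Finite X] (hι : 3 ≤ Fintype.card ι)
    [MulAction.IsPretransitive (SpecialLinearGroup ι F) X] (hX1 : 1 < Nat.card X)
    (hN : Nat.card X * (Nat.card F - 1) + 1 < Nat.card F ^ Fintype.card ι) {e : ι → F}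
    (he : e ≠ 0) :
    (∀ (x : X) φ (h : φ ⬝ᵥ e = 0), tr e φ h • x = x → φ = 0) ∧
      Nat.card X = Nat.card (perp e) := by
  have hne : Nonempty X := (Nat.card_pos_iff.1 (by omega)).1
  obtain ⟨x₀⟩ := hne
  -- case (I) for vectors
  have h1 : ∀ e : ι → F, e ≠ 0 → (∀ x : X, (∀ φ (h : φ ⬝ᵥ e = 0), tr e φ h • x = x) ∨
        (∀ φ (h : φ ⬝ᵥ e = 0), tr e φ h • x = x → φ = 0)) ∧
      Nat.card {x : X // ∀ φ (h : φ ⬝ᵥ e = 0), tr e φ h • x = x → φ = 0} =
        Nat.card (perp e) := by
    intro e he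
    rcases tri hι hX1 hN he with h | h
    · exact h
    · exact (not_two hι x₀ fun e' he' => two_all hι he h he' x₀).elim
  -- case (I) for linear forms
  have h2 : ∀ e : ι → F, e ≠ 0 → ∀ x : X, (∀ φ (h : e ⬝ᵥ φ = 0), tr φ e h • x = x) ∨
        (∀ φ (h : e ⬝ᵥ φ = 0), tr φ e h • x = x → φ = 0) := by
    intro e he x
    have h3 : (∀ x : Tw X, (∀ φ (h : φ ⬝ᵥ e = 0), tr e φ h • x = x) ∨
        (∀ φ (h : φ ⬝ᵥ e = 0), tr e φ h • x = x → φ = 0)) := by
      have hc : Nat.card (Tw X) = Nat.card X := (Nat.card_congr (twEquiv X)).symm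
      rcases tri (X := Tw X) hι (by rw [hc]; exact hX1) (by rw [hc]; exact hN) he with h | h
      · exact h.1
      · exact (not_two (X := Tw X) hι (Tw.of x₀)
          fun e' he' => two_all hι he h he' (Tw.of x₀)).elim
    rcases h3 (Tw.of x) with h | h
    · left
      intro φ hφ
      have hφ' : φ ⬝ᵥ e = 0 := by rw [dotProduct_comm]; exact hφ
      exact (tw_tr_smul e φ hφ' hφ x).1 (h φ hφ')
    · right
      intro φ hφ hx
      have hφ' : φ ⬝ᵥ e = 0 := by rw [dotProduct_comm]; exact hφ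
      exact h φ hφ' ((tw_tr_smul e φ hφ' hφ x).2 hx)
  -- if one `U e` fixes `x` then everything does
  have h3 : ∀ e : ι → F, e ≠ 0 → ∀ x : X, ∀ φ (h : φ ⬝ᵥ e = 0), tr e φ h • x = x → φ = 0 := by
    intro e he x
    rcases (h1 e he).1 x with h | h
    swap
    · exact h
    exfalso
    have h4 : ∀ e' : ι → F, e' ≠ 0 → ∀ φ (h : φ ⬝ᵥ e' = 0), tr e' φ h • x = x := by
      intro e' he'
      obtain ⟨φ, hφ, h5, h6⟩ := exists_perp_pair hι e e'
      have h7 : ∀ ψ (h : φ ⬝ᵥ ψ = 0), tr ψ φ h • x = x := by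
        rcases h2 φ hφ x with h7 | h7
        · exact h7
        · exact absurd (h7 e h5 (h φ h5)) he
      rcases (h1 e' he').1 x with h8 | h8
      · exact h8
      · exact absurd (h8 φ h6 (h7 e' h6)) hφ
    have h5 : ∀ g : SpecialLinearGroup ι F, g • x = x := by
      let N : Subgroup (SpecialLinearGroup ι F) := MulAction.stabilizer _ x
      have h4 : N = ⊤ := by
        rw [eq_top_iff, ← Cfsg.Agent.LieClassical.SLGen.closure_transvections,
          Subgroup.closure_le]
        rintro A ⟨i, j, hij, c, rfl⟩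
        rw [transvection_eq_tr]
        change tr _ _ _ • x = x
        by_cases hc : c = 0
        · have h5 : tr (c • Pi.single i 1) (Pi.single j 1) (by
              rw [dotProduct_smul, single_dotProduct, Pi.single_eq_of_ne hij.symm]; simp) =
              (1 : SpecialLinearGroup ι F) := by
            apply sl_ext'
            intro x
            rw [tr_smul, hc, zero_smul, smul_zero, add_zero, one_smul]
          rw [h5, one_smul]
        · apply h4
          intro h5
          have := congrFun h5 i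
          simp [hc] at this
      intro g
      have h5 : g ∈ N := by rw [h4]; trivial
      exact h5
    have : Nontrivial X := Finite.one_lt_card_iff_nontrivial.1 hX1
    obtain ⟨y, hy⟩ := exists_ne x
    obtain ⟨g, hg⟩ := MulAction.exists_smul_eq (SpecialLinearGroup ι F) x y
    exact hy (by rw [← hg, h5])
  refine ⟨h3 e he, ?_⟩
  rw [← (h1 e he).2]
  exact (Nat.card_congr (Equiv.subtypeUnivEquiv fun x => h3 e he x)).symm

/-- Every pair of points is connected by a transvection with centre `e`. -/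
theorem exists_tr_smul [Finite F] [Finite X] (hι : 3 ≤ Fintype.card ι)
    [MulAction.IsPretransitive (SpecialLinearGroup ι F) X] (hX1 : 1 < Nat.card X)
    (hN : Nat.card X * (Nat.card F - 1) + 1 < Nat.card F ^ Fintype.card ι) {e : ι → F}
    (he : e ≠ 0) (x y : X) : ∃ φ, ∃ h : φ ⬝ᵥ e = 0, tr e φ h • x = y := by
  obtain ⟨h1, h2⟩ := regular (X := X) hι hX1 hN he
  have h3 : Function.Injective (fun φ : perp e => tr e φ.1 φ.2 • x) := by
    intro φ ψ h
    have hφ : φ.1 ⬝ᵥ e = 0 := φ.2
    have hψ : ψ.1 ⬝ᵥ e = 0 := ψ.2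
    have hψ' : -ψ.1 ⬝ᵥ e = 0 := by rw [neg_dotProduct, hψ, neg_zero]
    have h4 : tr e (-ψ.1) hψ' • tr e φ.1 hφ • x = x := by
      have h5 : tr e φ.1 hφ • x = tr e ψ.1 hψ • x := h
      have h6 : tr e (-ψ.1) hψ' * tr e ψ.1 hψ = 1 := by
        apply sl_ext'
        intro x
        rw [mul_smul, tr_smul, tr_smul, one_smul, dotProduct_add, dotProduct_smul,
          neg_dotProduct, neg_dotProduct, hψ]
        module
      rw [h5, ← mul_smul, h6, one_smul]
    rw [← mul_smul, tr_mul_same_center] at h4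
    have h5 := h1 x _ _ h4
    apply Subtype.ext
    rw [neg_add_eq_zero] at h5
    exact h5.symm
  have h4 : Function.Bijective (fun φ : perp e => tr e φ.1 φ.2 • x) := by
    have := Fintype.ofFinite (perp e)
    have := Fintype.ofFinite X
    rw [Fintype.bijective_iff_injective_and_card]
    refine ⟨h3, ?_⟩
    rw [← Nat.card_eq_fintype_card, ← Nat.card_eq_fintype_card, h2]
  obtain ⟨φ, hφ⟩ := h4.2 y
  exact ⟨φ.1, φ.2, hφ⟩

end Cfsg.Agent.H79.MinIdxSL
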