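import Mathlib
import Cfsg.Agent.H79.MinIdxSL.Cases

/-!
# No action of `SL ι F` in which all groups `U e` are regular

(except `SL(4, 2)` on 8 points, and the trivial cases `|ι| ≤ 2`)
-/

set_option autoImplicit false
set_option linter.unusedSectionVars false

namespace Cfsg.Agent.H79.MinIdxSL

open Matrix Cfsg.Agent.ClassicalGeometry.AutPSL.Root Cfsg.Agent.H79.OrbitDual

variable {ι F : Type*} [Fintype ι] [DecidableEq ι] [Field F]
variable {X : Type*} [MulAction (SpecialLinearGroup ι F) X]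

/-- The stabilizer of `x` contains `v ↦ v + φ(v) c + ψ(v) e`. -/
def Rl (x : X) (e c φ ψ : ι → F) : Prop :=
  ∃ g : SpecialLinearGroup ι F, g • x = x ∧ ∀ v : ι → F, g • v = v + (φ ⬝ᵥ v) • c + (ψ ⬝ᵥ v) • e

section

variable {x : X} {e c : ι → F}

theorem Rl.zero : Rl x e c 0 0 :=
  ⟨1, one_smul _ _, fun v => by
    rw [one_smul, zero_dotProduct, zero_smul, zero_smul, add_zero, add_zero]⟩

theorem Rl.exists (hx : ∀ y : X, ∃ φ, ∃ h : φ ⬝ᵥ e = 0, tr e φ h • y = x) {φ : ι → F}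
    (h1 : φ ⬝ᵥ e = 0) (h2 : φ ⬝ᵥ c = 0) : ∃ ψ, ψ ⬝ᵥ e = 0 ∧ Rl x e c φ ψ := by
  obtain ⟨χ, hχ, hy⟩ := hx (tr c φ h2 • x)
  refine ⟨χ + (χ ⬝ᵥ c) • φ, by rw [add_dotProduct, smul_dotProduct, hχ, h1, smul_zero, add_zero],
    tr e χ hχ * tr c φ h2, by rw [mul_smul, hy], fun v => ?_⟩
  rw [mul_smul, tr_smul, tr_smul, dotProduct_add, dotProduct_smul, add_dotProduct,
    smul_dotProduct, smul_eq_mul, smul_eq_mul]
  module

theorem Rl.unique (hr : ∀ φ (h : φ ⬝ᵥ e = 0), tr e φ h • x = x → φ = 0) {φ ψ ψ' : ι → F}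
    (h1 : φ ⬝ᵥ e = 0) (h2 : ψ ⬝ᵥ e = 0) (h3 : ψ' ⬝ᵥ e = 0) (h4 : Rl x e c φ ψ)
    (h5 : Rl x e c φ ψ') : ψ = ψ' := by
  obtain ⟨g, hg, hg2⟩ := h4
  obtain ⟨g', hg', hg2'⟩ := h5
  have hge : g⁻¹ • e = e := by
    rw [inv_smul_eq_iff, hg2, h1, h2, zero_smul, zero_smul, add_zero, add_zero]
  have h6 : co g (ψ' - ψ) ⬝ᵥ e = 0 := by
    rw [co_dot, hge, sub_dotProduct, h2, h3, sub_zero]
  have h7 : g' * g⁻¹ = tr e (co g (ψ' - ψ)) h6 := by
    apply sl_ext'
    intro w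
    rw [mul_smul, tr_smul, co_dot, hg2']
    have h8 := hg2 (g⁻¹ • w)
    rw [smul_inv_smul] at h8
    rw [sub_dotProduct]
    generalize (g⁻¹ • w : ι → F) = v at h8 ⊢
    rw [h8]
    module
  have h8 : (g' * g⁻¹) • x = x := by
    rw [mul_smul, inv_smul_eq_iff.2 hg.symm, hg']
  rw [h7] at h8
  have h9 := hr _ _ h8
  have h10 : co g⁻¹ (co g (ψ' - ψ)) = ψ' - ψ := co_inv_co g _
  rw [h9] at h10
  have h11 : co g⁻¹ (0 : ι → F) = 0 := by rw [co, zero_vecMul]
  rw [h11] at h10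
  exact (sub_eq_zero.1 h10.symm).symm

theorem Rl.add {φ ψ φ' ψ' : ι → F} (h1 : φ ⬝ᵥ e = 0) (h2 : φ ⬝ᵥ c = 0) (h3 : ψ ⬝ᵥ e = 0)
    (h4 : Rl x e c φ ψ) (h5 : Rl x e c φ' ψ') :
    Rl x e c (φ + φ') (ψ + ψ' + (ψ ⬝ᵥ c) • φ') := by
  obtain ⟨g, hg, hg2⟩ := h4
  obtain ⟨g', hg', hg2'⟩ := h5
  refine ⟨g * g', by rw [mul_smul, hg', hg], fun v => ?_⟩
  rw [mul_smul, hg2', hg2]
  simp only [dotProduct_add, dotProduct_smul, add_dotProduct, smul_dotProduct, h1, h2, h3,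
    smul_eq_mul, mul_zero, add_zero]
  module

theorem Rl.conj {φ ψ : ι → F} (h4 : Rl x e c φ ψ) {h : SpecialLinearGroup ι F}
    (hx : h • x = x) (he : h • e = e) {s β : F} (hc : h • c = s • c + β • e) :
    Rl x e c (s • co h φ) (co h ψ + β • co h φ) := by
  obtain ⟨g, hg, hg2⟩ := h4
  refine ⟨h * g * h⁻¹, by rw [mul_smul, mul_smul, inv_smul_eq_iff.2 hx.symm, hg, hx],
    fun v => ?_⟩
  rw [mul_smul, mul_smul, hg2, smul_add, smul_add, smul_inv_smul]
  have h1 : ∀ (t : F) (u : ι → F), h • t • u = t • h • u := fun t u => smul_comm h t u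
  rw [h1, h1, he, hc]
  simp only [add_dotProduct, smul_dotProduct, co_dot, smul_eq_mul]
  module

/-- A transvection in disguise. -/
theorem Rl.false_of_smul
    (hr : ∀ e' : ι → F, e' ≠ 0 → ∀ φ (h : φ ⬝ᵥ e' = 0), tr e' φ h • x = x → φ = 0)
    (hce : c ∉ Submodule.span F {e}) {φ : ι → F} (h1 : φ ⬝ᵥ e = 0) (h2 : φ ⬝ᵥ c = 0)
    (hφ : φ ≠ 0) {t : F} (h : Rl x e c φ (t • φ)) : False := by
  obtain ⟨g, hg, hg2⟩ := h
  have h3 : φ ⬝ᵥ (c + t • e) = 0 := by
    rw [dotProduct_add, dotProduct_smul, h1, h2, smul_zero, add_zero]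
  have h4 : g = tr (c + t • e) φ h3 := by
    apply sl_ext'
    intro v
    rw [hg2, tr_smul, smul_dotProduct, smul_eq_mul]
    module
  rw [h4] at hg
  refine hφ (hr _ ?_ _ _ hg)
  intro h5
  apply hce
  rw [Submodule.mem_span_singleton]
  exact ⟨-t, by rw [neg_smul]; exact (eq_neg_of_add_eq_zero_left h5).symm⟩

end

/-- A vector outside a small subspace killed by a linear form. -/
theorem exists_notMem_perp (θ : ι → F) (S : Submodule F (ι → F))
    (hS : Module.finrank F S + 1 < Fintype.card ι) : ∃ a : ι → F, a ∉ S ∧ θ ⬝ᵥ a = 0 := by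
  by_contra hcon
  push Not at hcon
  let f : (ι → F) →ₗ[F] F :=
    { toFun := fun v => θ ⬝ᵥ v
      map_add' := fun v w => dotProduct_add _ _ _
      map_smul' := fun t v => dotProduct_smul _ _ _ }
  have h1 : LinearMap.ker f ≤ S := by
    intro v hv
    by_contra hv2
    exact hcon v hv2 hv
  have h2 := LinearMap.finrank_range_add_finrank_ker f
  have h3 : Module.finrank F (LinearMap.range f) ≤ 1 := by
    have := (LinearMap.range f).finrank_le
    rwa [Module.finrank_self] at this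
  have h4 := Submodule.finrank_mono h1
  rw [Module.finrank_fintype_fun_eq_card] at h2
  omega

theorem finrank_span_pair_le (a b : ι → F) :
    Module.finrank F (Submodule.span F ({a, b} : Set (ι → F))) ≤ 2 := by
  classical
  have h3 := finrank_span_finset_le_card (R := F) ({a, b} : Finset (ι → F))
  rw [Finset.coe_insert, Finset.coe_singleton] at h3
  exact h3.trans Finset.card_le_two

theorem finrank_span_triple_le (a b c : ι → F) :
    Module.finrank F (Submodule.span F ({a, b, c} : Set (ι → F))) ≤ 3 := by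
  classical
  have h3 := finrank_span_finset_le_card (R := F) ({a, b, c} : Finset (ι → F))
  rw [Finset.coe_insert, Finset.coe_insert, Finset.coe_singleton] at h3
  exact h3.trans Finset.card_le_three

/-- Dimension at least four. -/
theorem false_of_four (hι : 4 ≤ Fintype.card ι) (hexc : 5 ≤ Fintype.card ι ∨ 2 < Nat.card F)
    [Finite F] {x : X} {e c : ι → F} (he : e ≠ 0) (hce : c ∉ Submodule.span F {e})
    (hr : ∀ e' : ι → F, e' ≠ 0 → ∀ φ (h : φ ⬝ᵥ e' = 0), tr e' φ h • x = x → φ = 0)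
    (hx : ∀ y : X, ∃ φ, ∃ h : φ ⬝ᵥ e = 0, tr e φ h • y = x) : False := by
  have hex : ∀ φ : ι → F, φ ⬝ᵥ e = 0 → φ ⬝ᵥ c = 0 → ∃ ψ, ψ ⬝ᵥ e = 0 ∧ Rl x e c φ ψ :=
    fun φ h1 h2 => Rl.exists hx h1 h2
  choose! Ψ hΨe hΨ using hex
  have huniq := fun {φ ψ ψ' : ι → F} (h1 : φ ⬝ᵥ e = 0) (h2 : ψ ⬝ᵥ e = 0) (h3 : ψ' ⬝ᵥ e = 0)
    (h4 : Rl x e c φ ψ) (h5 : Rl x e c φ ψ') => Rl.unique (hr e he) h1 h2 h3 h4 h5
  have hΨ0 : Ψ 0 = 0 := huniq (φ := 0) (zero_dotProduct _) (hΨe 0 (zero_dotProduct _)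
    (zero_dotProduct _)) (zero_dotProduct _) (hΨ 0 (zero_dotProduct _) (zero_dotProduct _)) Rl.zero
  have hadd : ∀ φ φ' : ι → F, φ ⬝ᵥ e = 0 → φ ⬝ᵥ c = 0 → φ' ⬝ᵥ e = 0 → φ' ⬝ᵥ c = 0 →
      Ψ (φ + φ') = Ψ φ + Ψ φ' + (Ψ φ ⬝ᵥ c) • φ' := by
    intro φ φ' h1 h2 h3 h4
    have h5 : (φ + φ') ⬝ᵥ e = 0 := by rw [add_dotProduct, h1, h3, add_zero]
    have h6 : (φ + φ') ⬝ᵥ c = 0 := by rw [add_dotProduct, h2, h4, add_zero]
    refine huniq h5 (hΨe _ h5 h6) ?_ (hΨ _ h5 h6) (Rl.add h1 h2 (hΨe φ h1 h2) (hΨ φ h1 h2)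
      (hΨ φ' h3 h4))
    rw [add_dotProduct, add_dotProduct, smul_dotProduct, hΨe φ h1 h2, hΨe φ' h3 h4, h3,
      smul_zero, add_zero, add_zero]
  -- conjugation by lifted transvections
  have hconj : ∀ θ a : ι → F, θ ⬝ᵥ e = 0 → θ ⬝ᵥ c = 0 → θ ⬝ᵥ a = 0 → ∃ β : F,
      ∀ φ : ι → F, φ ⬝ᵥ e = 0 → φ ⬝ᵥ c = 0 →
        Ψ (φ - (φ ⬝ᵥ a) • θ) = Ψ φ - (Ψ φ ⬝ᵥ a) • θ + β • (φ - (φ ⬝ᵥ a) • θ) := by
    intro θ a h1 h2 h3
    obtain ⟨χ, hχ, hy⟩ := hx (tr a θ h3 • x)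
    set h := tr e χ hχ * tr a θ h3 with hh
    have hxh : h • x = x := by rw [hh, mul_smul, hy]
    have hte : tr a θ h3 • e = e := by rw [tr_smul, h1, zero_smul, add_zero]
    have htc : tr a θ h3 • c = c := by rw [tr_smul, h2, zero_smul, add_zero]
    have heh : h • e = e := by
      rw [hh, mul_smul, hte, tr_smul, hχ, zero_smul, add_zero]
    have hch : h • c = (1 : F) • c + (χ ⬝ᵥ c) • e := by
      rw [hh, mul_smul, htc, tr_smul, one_smul]
    have hco : ∀ φ : ι → F, φ ⬝ᵥ e = 0 → co h φ = φ - (φ ⬝ᵥ a) • θ := by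
      intro φ hφ
      apply dot_ext
      intro v
      obtain ⟨w, rfl⟩ : ∃ w, v = h • w := ⟨h⁻¹ • v, (smul_inv_smul _ _).symm⟩
      rw [co_dot_smul, hh, mul_smul, tr_smul, tr_smul]
      simp only [sub_dotProduct, smul_dotProduct, dotProduct_add, dotProduct_smul, smul_eq_mul,
        hφ, h1, h3]
      ring
    refine ⟨χ ⬝ᵥ c, fun φ h4 h5 => ?_⟩
    have h6 := Rl.conj (hΨ φ h4 h5) hxh heh hch
    rw [one_smul, hco φ h4, hco (Ψ φ) (hΨe φ h4 h5)] at h6
    have h7 : (φ - (φ ⬝ᵥ a) • θ) ⬝ᵥ e = 0 := by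
      rw [sub_dotProduct, smul_dotProduct, h4, h1, smul_zero, sub_zero]
    have h8 : (φ - (φ ⬝ᵥ a) • θ) ⬝ᵥ c = 0 := by
      rw [sub_dotProduct, smul_dotProduct, h5, h2, smul_zero, sub_zero]
    refine huniq h7 (hΨe _ h7 h8) ?_ (hΨ _ h7 h8) h6
    rw [add_dotProduct, smul_dotProduct, h7, sub_dotProduct, smul_dotProduct, h1,
      hΨe φ h4 h5, smul_zero, smul_zero, sub_zero, add_zero]
  -- choice of `φ`, `a` for a given `θ`
  have hch : ∀ θ : ι → F, ∃ φ a : ι → F, φ ⬝ᵥ e = 0 ∧ φ ⬝ᵥ c = 0 ∧ φ ⬝ᵥ a = 1 ∧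
      θ ⬝ᵥ a = 0 := by
    intro θ
    obtain ⟨a, ha, hθa⟩ := exists_notMem_perp θ (Submodule.span F {e, c}) (by
      have := finrank_span_pair_le e c
      omega)
    obtain ⟨φ, h1, h2⟩ := exists_fn _ ha
    exact ⟨φ, a, h1 _ (Submodule.subset_span (by simp)), h1 _ (Submodule.subset_span (by simp)),
      h2, hθa⟩
  -- `Ψ φ` kills `c`
  have hω : ∀ θ : ι → F, θ ⬝ᵥ e = 0 → θ ⬝ᵥ c = 0 → Ψ θ ⬝ᵥ c = 0 := by
    intro θ h1 h2
    obtain ⟨φ, a, h3, h4, h5, h6⟩ := hch θ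
    obtain ⟨β, hβ⟩ := hconj θ a h1 h2 h6
    have h7 := hβ φ h3 h4
    rw [h5, one_smul] at h7
    have h8 : (φ - θ) ⬝ᵥ e = 0 := by rw [sub_dotProduct, h1, h3, sub_zero]
    have h9 : (φ - θ) ⬝ᵥ c = 0 := by rw [sub_dotProduct, h2, h4, sub_zero]
    have h10 := hadd (φ - θ) θ h8 h9 h1 h2
    rw [sub_add_cancel] at h10
    have h11 := congrArg (fun z => z ⬝ᵥ c) h10
    simp only [add_dotProduct, smul_dotProduct, h2, smul_zero, add_zero] at h11
    have h12 := congrArg (fun z => z ⬝ᵥ c) h7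
    simp only [add_dotProduct, sub_dotProduct, smul_dotProduct, h2, h4, smul_zero, add_zero,
      sub_zero] at h12
    rw [h12] at h11
    exact (left_eq_add.1 h11)
  have hadd' : ∀ φ φ' : ι → F, φ ⬝ᵥ e = 0 → φ ⬝ᵥ c = 0 → φ' ⬝ᵥ e = 0 → φ' ⬝ᵥ c = 0 →
      Ψ (φ + φ') = Ψ φ + Ψ φ' := by
    intro φ φ' h1 h2 h3 h4
    rw [hadd φ φ' h1 h2 h3 h4, hω φ h1 h2, zero_smul, add_zero]
  -- the setup
  obtain ⟨w, hw⟩ : ∃ w : ι → F, w ∉ Submodule.span F {e, c} :=
    exists_notMem_span_pair (by omega) e c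
  obtain ⟨θ, hθ1, hθ2⟩ := exists_fn _ hw
  have hθe : θ ⬝ᵥ e = 0 := hθ1 _ (Submodule.subset_span (by simp))
  have hθc : θ ⬝ᵥ c = 0 := hθ1 _ (Submodule.subset_span (by simp))
  have hθ0 : θ ≠ 0 := by
    rintro rfl
    rw [zero_dotProduct] at hθ2
    exact zero_ne_one hθ2
  obtain ⟨φ, a, hφe, hφc, hφa, hθa⟩ := hch θ
  -- the main formula
  have hmain : ∀ (b φ' : ι → F), θ ⬝ᵥ b = 0 → φ' ⬝ᵥ e = 0 → φ' ⬝ᵥ c = 0 → φ' ⬝ᵥ b = 1 →
      Ψ θ = (Ψ φ' ⬝ᵥ b) • θ - (Ψ θ ⬝ᵥ b) • (φ' - θ) := by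
    intro b φ' h1 h2 h3 h4
    obtain ⟨β, hβ⟩ := hconj θ b hθe hθc h1
    have h5 := hβ θ hθe hθc
    rw [h1, zero_smul, sub_zero] at h5
    have h6 : (β - Ψ θ ⬝ᵥ b) • θ = 0 := by
      have h7 : Ψ θ + 0 = Ψ θ + (β - Ψ θ ⬝ᵥ b) • θ := by
        rw [add_zero]
        conv_lhs => rw [h5]
        module
      exact (add_left_cancel h7).symm
    have h7 : β = Ψ θ ⬝ᵥ b := by
      rcases smul_eq_zero.1 h6 with h | h
      · exact sub_eq_zero.1 h
      · exact absurd h hθ0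
    have h8 := hβ φ' h2 h3
    rw [h4, one_smul, h7] at h8
    have h9 := hadd' (φ' - θ) θ (by rw [sub_dotProduct, hθe, h2, sub_zero])
      (by rw [sub_dotProduct, hθc, h3, sub_zero]) hθe hθc
    rw [sub_add_cancel, h8] at h9
    generalize Ψ θ ⬝ᵥ b = s at h9 ⊢
    generalize Ψ φ' ⬝ᵥ b = t at h9 ⊢
    calc Ψ θ = (Ψ φ' - t • θ + s • (φ' - θ) + Ψ θ) - (Ψ φ' - t • θ + s • (φ' - θ)) := by abel
      _ = Ψ φ' - (Ψ φ' - t • θ + s • (φ' - θ)) := by rw [← h9]
      _ = t • θ - s • (φ' - θ) := by abel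
  have h1 := hmain a φ hθa hφe hφc hφa
  have hβ0 : Ψ θ ⬝ᵥ a = 0 := by
    rcases hexc with hexc | hexc
    · obtain ⟨b, hb, hθb⟩ := exists_notMem_perp θ (Submodule.span F {e, c, a}) (by
        have := finrank_span_triple_le e c a
        omega)
      obtain ⟨η, h2, h3⟩ := exists_fn _ hb
      have hηe : η ⬝ᵥ e = 0 := h2 _ (Submodule.subset_span (by simp))
      have hηc : η ⬝ᵥ c = 0 := h2 _ (Submodule.subset_span (by simp))
      have hηa : η ⬝ᵥ a = 0 := h2 _ (Submodule.subset_span (by simp))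
      have h4 := hmain a (φ + η) hθa (by rw [add_dotProduct, hφe, hηe, add_zero])
        (by rw [add_dotProduct, hφc, hηc, add_zero]) (by rw [add_dotProduct, hφa, hηa, add_zero])
      have h5 := h1.symm.trans h4
      have h6 := congrArg (fun z => z ⬝ᵥ b) h5
      simp only [add_dotProduct, sub_dotProduct, smul_dotProduct, hθb, h3, smul_eq_mul,
        mul_zero, sub_zero, zero_sub] at h6
      linear_combination h6
    · -- scalars
      have hf : ∀ t : F, t ≠ 0 → Ψ (t • φ) ⬝ᵥ a =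
          t * (Ψ φ ⬝ᵥ a + Ψ θ ⬝ᵥ a) - Ψ θ ⬝ᵥ a := by
        intro t ht
        have h2 := hmain (t⁻¹ • a) (t • φ) (by rw [dotProduct_smul, hθa, smul_zero])
          (by rw [smul_dotProduct, hφe, smul_zero]) (by rw [smul_dotProduct, hφc, smul_zero])
          (by rw [smul_dotProduct, dotProduct_smul, hφa, smul_smul, mul_inv_cancel₀ ht, one_smul])
        have h3 := h1.symm.trans h2
        rw [dotProduct_smul, dotProduct_smul, smul_eq_mul, smul_eq_mul] at h3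
        have h4 : (t⁻¹ * (Ψ (t • φ) ⬝ᵥ a) + t⁻¹ * (Ψ θ ⬝ᵥ a) - (Ψ φ ⬝ᵥ a) - (Ψ θ ⬝ᵥ a)) • θ
            = 0 := by
          have h5 : (t⁻¹ * (Ψ θ ⬝ᵥ a)) • (t • φ) = (Ψ θ ⬝ᵥ a) • φ := by
            rw [smul_smul]
            congr 1
            field_simp
          rw [smul_sub (t⁻¹ * _), h5] at h3
          rw [← sub_eq_zero] at h3
          rw [← neg_eq_zero, ← h3]
          module
        rcases smul_eq_zero.1 h4 with h | h
        · field_simp at h
          linear_combination h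
        · exact absurd h hθ0
      obtain ⟨t, ht0, ht1⟩ : ∃ t : F, t ≠ 0 ∧ t + 1 ≠ 0 := by
        by_contra hcon
        push Not at hcon
        have h2 : Nat.card F ≤ Nat.card (Fin 2) := by
          refine Nat.card_le_card_of_surjective (fun i : Fin 2 => if i = 0 then (0 : F) else -1) ?_
          intro t
          by_cases ht : t = 0
          · exact ⟨0, by simp [ht]⟩
          · exact ⟨1, by simp [eq_neg_of_add_eq_zero_left (hcon t ht)]⟩
        rw [Nat.card_eq_fintype_card (α := Fin 2), Fintype.card_fin] at h2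
        omega
      have h2 := hf t ht0
      have h3 := hf (t + 1) ht1
      have h4 := hadd' (t • φ) φ (by rw [smul_dotProduct, hφe, smul_zero])
        (by rw [smul_dotProduct, hφc, smul_zero]) hφe hφc
      rw [add_smul, one_smul, h4, add_dotProduct, h2] at h3
      linear_combination -h3
  rw [hβ0, zero_smul, sub_zero] at h1
  refine Rl.false_of_smul hr hce hθe hθc hθ0 (t := Ψ φ ⬝ᵥ a) ?_
  rw [← h1]
  exact hΨ θ hθe hθc

/-- The diagonal matrix `(1, -1, -1)`. -/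
def dg3 (F : Type*) [Field F] : SpecialLinearGroup (Fin 3) F :=
  ⟨diagonal ![1, -1, -1], by
    rw [det_diagonal, Fin.prod_univ_three]; simp⟩

theorem dg3_smul (v : Fin 3 → F) : dg3 F • v = ![v 0, -v 1, -v 2] := by
  rw [smul_eq_mulVec']
  change (diagonal ![1, -1, -1] : Matrix (Fin 3) (Fin 3) F) *ᵥ v = _
  ext i
  rw [mulVec_diagonal]
  fin_cases i <;> simp

/-- Dimension three. -/
theorem false_of_three {X : Type*} [MulAction (SpecialLinearGroup (Fin 3) F) X] {x : X}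
    (hr : ∀ e' : Fin 3 → F, e' ≠ 0 → ∀ φ (h : φ ⬝ᵥ e' = 0), tr e' φ h • x = x → φ = 0)
    (hx : ∀ y : X, ∃ φ, ∃ h : φ ⬝ᵥ (Pi.single 0 1 : Fin 3 → F) = 0,
      tr (Pi.single 0 1) φ h • y = x) : False := by
  set e : Fin 3 → F := Pi.single 0 1 with hedef
  set c : Fin 3 → F := Pi.single 1 1 with hcdef
  set θ : Fin 3 → F := Pi.single 2 1 with hθdef
  have he : e ≠ 0 := by
    intro h
    have := congrFun h 0
    simp [hedef] at this
  have hθ0 : θ ≠ 0 := by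
    intro h
    have := congrFun h 2
    simp [hθdef] at this
  have hce : c ∉ Submodule.span F {e} := by
    intro h
    obtain ⟨t, ht⟩ := Submodule.mem_span_singleton.1 h
    have := congrFun ht 1
    simp [hedef, hcdef] at this
  have dote : ∀ φ : Fin 3 → F, φ ⬝ᵥ e = φ 0 := by
    intro φ
    rw [hedef, dotProduct_single, mul_one]
  have dotc : ∀ φ : Fin 3 → F, φ ⬝ᵥ c = φ 1 := by
    intro φ
    rw [hcdef, dotProduct_single, mul_one]
  have hθe : θ ⬝ᵥ e = 0 := by rw [dote]; simp [hθdef]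
  have hθc : θ ⬝ᵥ c = 0 := by rw [dotc]; simp [hθdef]
  obtain ⟨ψ, hψe, hψ⟩ := Rl.exists hx hθe hθc
  have hψ1 : ψ ⬝ᵥ c ≠ 0 := by
    intro h
    refine Rl.false_of_smul hr hce hθe hθc hθ0 (t := ψ 2) ?_
    have h1 : ψ 2 • θ = ψ := by
      rw [dotc] at h
      rw [dote] at hψe
      ext i
      fin_cases i
      · simp [hθdef, hψe]
      · simp [hθdef, h]
      · simp [hθdef]
    rw [h1]
    exact hψ
  by_cases h2 : (2 : F) = 0
  · -- characteristic two
    have h3 := Rl.add hθe hθc hψe hψ hψ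
    have h4 : θ + θ = 0 := by rw [← two_smul F θ, h2, zero_smul]
    have h5 : ψ + ψ = 0 := by rw [← two_smul F ψ, h2, zero_smul]
    rw [h4, h5, zero_add] at h3
    have h6 := Rl.unique (hr e he) (zero_dotProduct e) (by
      rw [smul_dotProduct, hθe, smul_zero]) (zero_dotProduct e) h3 Rl.zero
    rcases smul_eq_zero.1 h6 with h | h
    · exact hψ1 h
    · exact hθ0 h
  · -- odd characteristic
    obtain ⟨χ, hχ, hy⟩ := hx (dg3 F • x)
    set h := tr e χ hχ * dg3 F with hh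
    have hxh : h • x = x := by rw [hh, mul_smul, hy]
    have hde : dg3 F • e = e := by
      rw [dg3_smul]
      ext i
      fin_cases i <;> simp [hedef]
    have hdc : dg3 F • c = -c := by
      rw [dg3_smul]
      ext i
      fin_cases i <;> simp [hcdef]
    have heh : h • e = e := by
      rw [hh, mul_smul, hde, tr_smul, hχ, zero_smul, add_zero]
    have hch : h • c = (-1 : F) • c + (-(χ ⬝ᵥ c)) • e := by
      rw [hh, mul_smul, hdc, tr_smul, dotProduct_neg]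
      module
    have hco : ∀ φ : Fin 3 → F, φ ⬝ᵥ e = 0 → co h φ = -φ := by
      intro φ hφ
      apply dot_ext
      intro v
      obtain ⟨w, rfl⟩ : ∃ w, v = h • w := ⟨h⁻¹ • v, (smul_inv_smul _ _).symm⟩
      rw [co_dot_smul, hh, mul_smul, tr_smul, neg_dotProduct, dotProduct_add, dotProduct_smul,
        hφ, smul_zero, add_zero, dg3_smul]
      rw [dote] at hφ
      simp only [dotProduct, Fin.sum_univ_three, hφ]
      simp
      ring
    have h3 := Rl.conj hψ hxh heh hch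
    rw [hco θ hθe, hco ψ hψe] at h3
    have h4 : (-1 : F) • -θ = θ := by module
    rw [h4] at h3
    have h5 := Rl.unique (hr e he) hθe hψe (by
      rw [add_dotProduct, neg_dotProduct, smul_dotProduct, neg_dotProduct, hψe, hθe]
      simp) hψ h3
    have h6 := congrArg (fun z => z ⬝ᵥ c) h5
    simp only [add_dotProduct, neg_dotProduct, smul_dotProduct, hθc, neg_zero, smul_zero,
      add_zero] at h6
    have h7 : (2 : F) * (ψ ⬝ᵥ c) = 0 := by linear_combination h6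
    rcases mul_eq_zero.1 h7 with h | h
    · exact h2 h
    · exact hψ1 h

/-- The main theorem: the minimal degree of a transitive action of `SL (Fin n) F`. -/
theorem le_card [Finite F] {n : ℕ} (hn : 3 ≤ n) (hexc : ¬ (n = 4 ∧ Nat.card F = 2))
    (X : Type*) [MulAction (SpecialLinearGroup (Fin n) F) X] [Finite X]
    [MulAction.IsPretransitive (SpecialLinearGroup (Fin n) F) X] (hX1 : 1 < Nat.card X) :
    (Nat.card F ^ n - 1) / (Nat.card F - 1) ≤ Nat.card X := by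
  by_contra hcon
  push Not at hcon
  have hq1 : 1 < Nat.card F := Finite.one_lt_card
  have hι : 3 ≤ Fintype.card (Fin n) := by rwa [Fintype.card_fin]
  have hN : Nat.card X * (Nat.card F - 1) + 1 < Nat.card F ^ Fintype.card (Fin n) := by
    rw [Fintype.card_fin]
    have h1 := (Nat.lt_div_iff_mul_lt_of_dvd (by omega)
      (Nat.sub_one_dvd_pow_sub_one (Nat.card F) n)).1 hcon
    omega
  have hne : Nonempty X := (Nat.card_pos_iff.1 (by omega)).1
  obtain ⟨x⟩ := hne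
  have hr : ∀ e' : Fin n → F, e' ≠ 0 → ∀ φ (h : φ ⬝ᵥ e' = 0), tr e' φ h • x = x → φ = 0 :=
    fun e' he' φ h => (regular (X := X) hι hX1 hN he').1 x φ h
  have hx : ∀ e' : Fin n → F, e' ≠ 0 → ∀ y : X, ∃ φ, ∃ h : φ ⬝ᵥ e' = 0, tr e' φ h • y = x :=
    fun e' he' y => exists_tr_smul hι hX1 hN he' y x
  rcases Nat.lt_or_ge 3 n with h4 | h4
  · have hne : NeZero n := ⟨by omega⟩
    have he : (Pi.single 0 1 : Fin n → F) ≠ 0 := by simp
    obtain ⟨c, hc⟩ := exists_notMem_span_pair (F := F) hι (Pi.single 0 1) (Pi.single 0 1)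
    refine false_of_four (x := x) (e := Pi.single 0 1) (c := c) (by rwa [Fintype.card_fin]) ?_ he
      (by simpa using hc) hr (hx _ he)
    rw [Fintype.card_fin]
    by_cases h5 : n = 4
    · right
      have : Nat.card F ≠ 2 := fun h => hexc ⟨h5, h⟩
      omega
    · left
      omega
  · have h3 : n = 3 := by omega
    subst h3
    exact false_of_three hr (hx _ (by simp))

end Cfsg.Agent.H79.MinIdxSL
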